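import Cfsg.Agent.H695.OneZero.DetMain_mg_m3
import Cfsg.Agent.H798.OZ.Ell
import Cfsg.Agent.H557.LrData
import Cfsg.Agent.Lib.FinFast
import Cfsg.Agent.ClosedExc.Rows
import Cfsg.Agent.H730.OZ.Asm
import Cfsg.Agent.Prune
set_option linter.all false

section
prune_inst 0x7ffcfffeefacbddfffff7e3ffffadffc13c08fffe6dff943ffe0ebbf1bdf138a0fedfb8f0df0d0fe0ed7e2b410b87813fb7eefffea6fdc7ffffdfff41ffbee0fb5e7b50851dc9ca40fb80fff83f0778a7f3fffffffffffffffffffffffffffbefffdffffffff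

-- part: H650/OZ/F4Inst_mg
section
prune_inst 0x100500000000001c000050001c8296000090000b80008004024006800c0020010e200020110200100000000000081100001002200000000004000000000000a8000220010000000006000080000000000000000000000000000000000000000000000
set_option linter.all false
open scoped Cfsg.Agent.FastGrp
private noncomputable def lq2632fbdf7e {T : Sort _} (f :
    type_of% (@_root_.Matrix.vecCons.{0}) →
    type_of% (@_root_.List.cons.{0}) →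
    type_of% (@_root_.Prod.mk.{0, 0}) →
    type_of% (@_root_.Matrix.vecEmpty.{0}) →
    type_of% (@_root_.List.nil.{0}) → T) : T :=
  f (@_root_.Matrix.vecCons.{0}) (@_root_.List.cons.{0}) (@_root_.Prod.mk.{0, 0}) (@_root_.Matrix.vecEmpty.{0}) (@_root_.List.nil.{0})

-- part: H650/OZ/F4Comb
section
/-!
# S4842, type F4: the `T`-characters seen by elliptic elements (helper650)

Nodes `0, 1, 2, 3`, Cartan matrix `AF i j = ⟨α_j, α_i^∨⟩` of the table `chevF4` (`0, 1` short, `2, 3` long).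

* `triv_A`, `triv_B` : `NP {0, 1, 3} l` (`NP {0, 2, 3} l`): `l` is trivial on the coroots `0, 1, 3` (`0, 2, 3`);
* `eq_one_or` : both in one `W`-orbit: `l = 1` or there is a homomorphism `c : E →* ℂˣ` of order `3` and no character of
  the orbit satisfies `NP {0, 1, 2}` or `NP {1, 2, 3}`;
* `eq_one` : elements `Ell {0, 1, 3}`, `Ell {0, 2, 3}` and (if `3` divides the order of `E`) `Ell {0, 1, 2}` or `Ell {1, 2, 3}` with
  nonzero value: `V^U` is fixed by `T`.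
-/

set_option autoImplicit false
set_option linter.unusedSectionVars false
set_option maxRecDepth 100000

open Cfsg

namespace Cfsg.Agent.H650.OZ.FF

open CoxeterSystem Cfsg.Agent.ChevalleyStructure.CoxeterGeom Cfsg.Agent.Tits.Roots Cfsg.Agent.Tits.Core
  Cfsg.Agent.Tits.Exchange Cfsg.Agent.Nodes.Reps Cfsg.Agent.Nodes.BNOf Cfsg.Agent.Nodes.StabComb
  Cfsg.Agent.Nodes.Bruhat Cfsg.Agent.Nodes.OppDec Cfsg.Agent.Nodes.LeviDec Cfsg.Agent.H985.VZ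

/-- the Cartan matrix -/
def AF : Fin 4 → Fin 4 → ℤ := (beta% delta% lq2632fbdf7e fun a _ _ d _ =>
 (a (a 2<|a (-1)<|a 0<|a 0<|d)<|a (a (-1)<|a 2<|a (-2)<|a 0<|d)<|a (a 0<|a (-1)<|a 2<|a (-1)<|d)<|a (a 0<|a 0<|a (-1)<|a 2<|d)<|d))

/-- its inverse -/
def AI : Fin 4 → Fin 4 → ℤ := (beta% delta% lq2632fbdf7e fun a _ _ d _ =>
 (a (a 2<|a 3<|a 4<|a 2<|d)<|a (a 3<|a 6<|a 8<|a 4<|d)<|a (a 2<|a 4<|a 6<|a 3<|d)<|a (a 1<|a 2<|a 3<|a 2<|d)<|d))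

/-- an integer matrix applied to a vector -/
def ap (m : Fin 4 → Fin 4 → ℤ) (v : Fin 4 → ℤ) (i : Fin 4) : ℤ := m i 0 * v 0 + m i 1 * v 1 + m i 2 * v 2 + m i 3 * v 3

/-- an integer row applied to `m - 1` -/
def row (m : Fin 4 → Fin 4 → ℤ) (c : Fin 4 → ℤ) (k : Fin 4) : ℤ :=
  c 0 * m 0 k + c 1 * m 1 k + c 2 * m 2 k + c 3 * m 3 k - c k

/-- equality of vectors -/
def eqV (a b : Fin 4 → ℤ) : Bool := a 0 == b 0 && (a 1 == b 1 && (a 2 == b 2 && a 3 == b 3))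

/-- equality of matrices -/
def eqM (a b : Fin 4 → Fin 4 → ℤ) : Bool := eqV (a 0) (b 0) && (eqV (a 1) (b 1) && (eqV (a 2) (b 2) && eqV (a 3) (b 3)))

/-- the coordinates are divisible by `3` -/
def dv3 (a : Fin 4 → ℤ) : Bool := a 0 % 3 == 0 && (a 1 % 3 == 0 && (a 2 % 3 == 0 && a 3 % 3 == 0))

/-- all nodes -/
def I4 : List (Fin 4) := [0, 1, 2, 3]

/-- the coordinates outside `J` and the coordinate `j` -/
def yy (J : List (Fin 4)) (j i : Fin 4) : ℤ := if i ∈ J ∧ i ≠ j then 0 else 1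

/-- the matrices of `W_J`, `J = {0, 1, 3}` -/
def SA : List (Fin 4 → Fin 4 → ℤ) := (beta% delta% lq2632fbdf7e fun a b _ d e =>
 (b (a (a 1<|a 0<|a 0<|a 0<|d)<|a (a 0<|a 1<|a 0<|a 0<|d)<|a (a 0<|a 0<|a 1<|a 0<|d)<|a (a 0<|a 0<|a 0<|a 1<|d)<|d)<|
 b (a (a (-1)<|a 0<|a 0<|a 0<|d)<|a (a 1<|a 1<|a 0<|a 0<|d)<|a (a 0<|a 0<|a 1<|a 0<|d)<|a (a 0<|a 0<|a 0<|a 1<|d)<|d)<|
 b (a (a 1<|a 1<|a 0<|a 0<|d)<|a (a 0<|a (-1)<|a 0<|a 0<|d)<|a (a 0<|a 1<|a 1<|a 0<|d)<|a (a 0<|a 0<|a 0<|a 1<|d)<|d)<|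
 b (a (a 1<|a 0<|a 0<|a 0<|d)<|a (a 0<|a 1<|a 0<|a 0<|d)<|a (a 0<|a 0<|a 1<|a 1<|d)<|a (a 0<|a 0<|a 0<|a (-1)<|d)<|d)<|
 b (a (a 0<|a 1<|a 0<|a 0<|d)<|a (a (-1)<|a (-1)<|a 0<|a 0<|d)<|a (a 1<|a 1<|a 1<|a 0<|d)<|a (a 0<|a 0<|a 0<|a 1<|d)<|d)<|
 b (a (a (-1)<|a 0<|a 0<|a 0<|d)<|a (a 1<|a 1<|a 0<|a 0<|d)<|a (a 0<|a 0<|a 1<|a 1<|d)<|a (a 0<|a 0<|a 0<|a (-1)<|d)<|d)<|
 b (a (a (-1)<|a (-1)<|a 0<|a 0<|d)<|a (a 1<|a 0<|a 0<|a 0<|d)<|a (a 0<|a 1<|a 1<|a 0<|d)<|a (a 0<|a 0<|a 0<|a 1<|d)<|d)<|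
 b (a (a 1<|a 1<|a 0<|a 0<|d)<|a (a 0<|a (-1)<|a 0<|a 0<|d)<|a (a 0<|a 1<|a 1<|a 1<|d)<|a (a 0<|a 0<|a 0<|a (-1)<|d)<|d)<|
 b (a (a 0<|a (-1)<|a 0<|a 0<|d)<|a (a (-1)<|a 0<|a 0<|a 0<|d)<|a (a 1<|a 1<|a 1<|a 0<|d)<|a (a 0<|a 0<|a 0<|a 1<|d)<|d)<|
 b (a (a 0<|a 1<|a 0<|a 0<|d)<|a (a (-1)<|a (-1)<|a 0<|a 0<|d)<|a (a 1<|a 1<|a 1<|a 1<|d)<|a (a 0<|a 0<|a 0<|a (-1)<|d)<|d)<|
 b (a (a (-1)<|a (-1)<|a 0<|a 0<|d)<|a (a 1<|a 0<|a 0<|a 0<|d)<|a (a 0<|a 1<|a 1<|a 1<|d)<|a (a 0<|a 0<|a 0<|a (-1)<|d)<|d)<|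
 b (a (a 0<|a (-1)<|a 0<|a 0<|d)<|a (a (-1)<|a 0<|a 0<|a 0<|d)<|a (a 1<|a 1<|a 1<|a 1<|d)<|a (a 0<|a 0<|a 0<|a (-1)<|d)<|d)<|e))

/-- the matrices of `W_J`, `J = {0, 2, 3}` -/
def SB : List (Fin 4 → Fin 4 → ℤ) := (beta% delta% lq2632fbdf7e fun a b _ d e =>
 (b (a (a 1<|a 0<|a 0<|a 0<|d)<|a (a 0<|a 1<|a 0<|a 0<|d)<|a (a 0<|a 0<|a 1<|a 0<|d)<|a (a 0<|a 0<|a 0<|a 1<|d)<|d)<|
 b (a (a (-1)<|a 0<|a 0<|a 0<|d)<|a (a 1<|a 1<|a 0<|a 0<|d)<|a (a 0<|a 0<|a 1<|a 0<|d)<|a (a 0<|a 0<|a 0<|a 1<|d)<|d)<|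
 b (a (a 1<|a 0<|a 0<|a 0<|d)<|a (a 0<|a 1<|a 2<|a 0<|d)<|a (a 0<|a 0<|a (-1)<|a 0<|d)<|a (a 0<|a 0<|a 1<|a 1<|d)<|d)<|
 b (a (a 1<|a 0<|a 0<|a 0<|d)<|a (a 0<|a 1<|a 0<|a 0<|d)<|a (a 0<|a 0<|a 1<|a 1<|d)<|a (a 0<|a 0<|a 0<|a (-1)<|d)<|d)<|
 b (a (a (-1)<|a 0<|a 0<|a 0<|d)<|a (a 1<|a 1<|a 2<|a 0<|d)<|a (a 0<|a 0<|a (-1)<|a 0<|d)<|a (a 0<|a 0<|a 1<|a 1<|d)<|d)<|
 b (a (a (-1)<|a 0<|a 0<|a 0<|d)<|a (a 1<|a 1<|a 0<|a 0<|d)<|a (a 0<|a 0<|a 1<|a 1<|d)<|a (a 0<|a 0<|a 0<|a (-1)<|d)<|d)<|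
 b (a (a 1<|a 0<|a 0<|a 0<|d)<|a (a 0<|a 1<|a 2<|a 0<|d)<|a (a 0<|a 0<|a 0<|a 1<|d)<|a (a 0<|a 0<|a (-1)<|a (-1)<|d)<|d)<|
 b (a (a 1<|a 0<|a 0<|a 0<|d)<|a (a 0<|a 1<|a 2<|a 2<|d)<|a (a 0<|a 0<|a (-1)<|a (-1)<|d)<|a (a 0<|a 0<|a 1<|a 0<|d)<|d)<|
 b (a (a (-1)<|a 0<|a 0<|a 0<|d)<|a (a 1<|a 1<|a 2<|a 0<|d)<|a (a 0<|a 0<|a 0<|a 1<|d)<|a (a 0<|a 0<|a (-1)<|a (-1)<|d)<|d)<|
 b (a (a (-1)<|a 0<|a 0<|a 0<|d)<|a (a 1<|a 1<|a 2<|a 2<|d)<|a (a 0<|a 0<|a (-1)<|a (-1)<|d)<|a (a 0<|a 0<|a 1<|a 0<|d)<|d)<|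
 b (a (a 1<|a 0<|a 0<|a 0<|d)<|a (a 0<|a 1<|a 2<|a 2<|d)<|a (a 0<|a 0<|a 0<|a (-1)<|d)<|a (a 0<|a 0<|a (-1)<|a 0<|d)<|d)<|
 b (a (a (-1)<|a 0<|a 0<|a 0<|d)<|a (a 1<|a 1<|a 2<|a 2<|d)<|a (a 0<|a 0<|a 0<|a (-1)<|d)<|a (a 0<|a 0<|a (-1)<|a 0<|d)<|d)<|e))

/-- a vector with four entries -/
def v4 {α : Type} (a b c d : α) : Fin 4 → α := fun i =>
  Bool.rec (Bool.rec a b (Nat.beq i.val 1)) (Bool.rec c d (Nat.beq i.val 3)) (Nat.ble 2 i.val)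

/-- the matrices of `W_J`, `J = {0, 1, 2}` -/
def SC : List (Fin 4 → Fin 4 → ℤ) :=
  v4 (v4 1 0 0 0) (v4 0 1 0 0) (v4 0 0 1 0) (v4 0 0 0 1) ::
  v4 (v4 (-1) 0 0 0) (v4 1 1 0 0) (v4 0 0 1 0) (v4 0 0 0 1) ::
  v4 (v4 1 1 0 0) (v4 0 (-1) 0 0) (v4 0 1 1 0) (v4 0 0 0 1) ::
  v4 (v4 1 0 0 0) (v4 0 1 2 0) (v4 0 0 (-1) 0) (v4 0 0 1 1) ::
  v4 (v4 0 1 0 0) (v4 (-1) (-1) 0 0) (v4 1 1 1 0) (v4 0 0 0 1) ::
  v4 (v4 (-1) 0 0 0) (v4 1 1 2 0) (v4 0 0 (-1) 0) (v4 0 0 1 1) ::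
  v4 (v4 (-1) (-1) 0 0) (v4 1 0 0 0) (v4 0 1 1 0) (v4 0 0 0 1) ::
  v4 (v4 1 1 0 0) (v4 0 1 2 0) (v4 0 (-1) (-1) 0) (v4 0 1 1 1) ::
  v4 (v4 1 1 2 0) (v4 0 (-1) (-2) 0) (v4 0 1 1 0) (v4 0 0 1 1) ::
  v4 (v4 0 (-1) 0 0) (v4 (-1) 0 0 0) (v4 1 1 1 0) (v4 0 0 0 1) ::
  v4 (v4 0 1 0 0) (v4 1 1 2 0) (v4 (-1) (-1) (-1) 0) (v4 1 1 1 1) ::
  v4 (v4 0 1 2 0) (v4 (-1) (-1) (-2) 0) (v4 1 1 1 0) (v4 0 0 1 1) ::
  v4 (v4 (-1) (-1) 0 0) (v4 1 2 2 0) (v4 0 (-1) (-1) 0) (v4 0 1 1 1) ::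
  v4 (v4 1 2 2 0) (v4 0 (-1) (-2) 0) (v4 0 0 1 0) (v4 0 1 1 1) ::
  v4 (v4 (-1) (-1) (-2) 0) (v4 1 0 0 0) (v4 0 1 1 0) (v4 0 0 1 1) ::
  v4 (v4 1 1 2 0) (v4 0 1 0 0) (v4 0 (-1) (-1) 0) (v4 0 1 2 1) ::
  v4 (v4 0 (-1) 0 0) (v4 1 2 2 0) (v4 (-1) (-1) (-1) 0) (v4 1 1 1 1) ::
  v4 (v4 1 2 2 0) (v4 (-1) (-1) (-2) 0) (v4 0 0 1 0) (v4 1 1 1 1) ::
  v4 (v4 0 (-1) (-2) 0) (v4 (-1) 0 0 0) (v4 1 1 1 0) (v4 0 0 1 1) ::
  v4 (v4 0 1 2 0) (v4 1 1 0 0) (v4 (-1) (-1) (-1) 0) (v4 1 1 2 1) ::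
  v4 (v4 0 1 2 0) (v4 (-1) (-2) (-2) 0) (v4 1 1 1 0) (v4 0 1 1 1) ::
  v4 (v4 (-1) (-2) (-2) 0) (v4 1 1 0 0) (v4 0 0 1 0) (v4 0 1 1 1) ::
  v4 (v4 1 2 2 0) (v4 0 (-1) 0 0) (v4 0 0 (-1) 0) (v4 0 1 2 1) ::
  v4 (v4 (-1) (-1) (-2) 0) (v4 1 2 2 0) (v4 0 (-1) (-1) 0) (v4 0 1 2 1) ::
  v4 (v4 1 1 2 0) (v4 (-1) (-2) (-2) 0) (v4 0 1 1 0) (v4 1 1 1 1) ::
  v4 (v4 (-1) (-2) (-2) 0) (v4 0 1 0 0) (v4 0 0 1 0) (v4 1 1 1 1) ::
  v4 (v4 1 2 2 0) (v4 (-1) (-1) 0 0) (v4 0 0 (-1) 0) (v4 1 1 2 1) ::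
  v4 (v4 0 (-1) (-2) 0) (v4 1 2 2 0) (v4 (-1) (-1) (-1) 0) (v4 1 1 2 1) ::
  v4 (v4 0 (-1) (-2) 0) (v4 (-1) (-1) 0 0) (v4 1 1 1 0) (v4 0 1 1 1) ::
  v4 (v4 0 1 2 0) (v4 1 0 0 0) (v4 (-1) (-1) (-1) 0) (v4 1 2 2 1) ::
  v4 (v4 (-1) (-2) (-2) 0) (v4 1 1 2 0) (v4 0 0 (-1) 0) (v4 0 1 2 1) ::
  v4 (v4 0 1 0 0) (v4 (-1) (-2) (-2) 0) (v4 1 1 1 0) (v4 0 1 2 1) ::
  v4 (v4 (-1) (-1) (-2) 0) (v4 0 (-1) 0 0) (v4 0 1 1 0) (v4 1 1 1 1) ::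
  v4 (v4 1 1 2 0) (v4 (-1) 0 0 0) (v4 0 (-1) (-1) 0) (v4 1 2 2 1) ::
  v4 (v4 (-1) (-2) (-2) 0) (v4 0 1 2 0) (v4 0 0 (-1) 0) (v4 1 1 2 1) ::
  v4 (v4 1 1 0 0) (v4 (-1) (-2) (-2) 0) (v4 0 1 1 0) (v4 1 1 2 1) ::
  v4 (v4 0 (-1) (-2) 0) (v4 1 1 2 0) (v4 (-1) (-1) (-1) 0) (v4 1 2 2 1) ::
  v4 (v4 0 (-1) 0 0) (v4 (-1) (-1) (-2) 0) (v4 1 1 1 0) (v4 0 1 2 1) ::
  v4 (v4 0 1 0 0) (v4 1 0 0 0) (v4 (-1) (-1) (-1) 0) (v4 1 2 3 1) ::
  v4 (v4 (-1) (-1) (-2) 0) (v4 0 1 2 0) (v4 0 (-1) (-1) 0) (v4 1 2 2 1) ::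
  v4 (v4 (-1) (-1) 0 0) (v4 0 (-1) (-2) 0) (v4 0 1 1 0) (v4 1 1 2 1) ::
  v4 (v4 1 1 0 0) (v4 (-1) 0 0 0) (v4 0 (-1) (-1) 0) (v4 1 2 3 1) ::
  v4 (v4 1 0 0 0) (v4 (-1) (-1) (-2) 0) (v4 0 0 1 0) (v4 1 2 2 1) ::
  v4 (v4 0 (-1) 0 0) (v4 1 1 0 0) (v4 (-1) (-1) (-1) 0) (v4 1 2 3 1) ::
  v4 (v4 (-1) 0 0 0) (v4 0 (-1) (-2) 0) (v4 0 0 1 0) (v4 1 2 2 1) ::
  v4 (v4 (-1) (-1) 0 0) (v4 0 1 0 0) (v4 0 (-1) (-1) 0) (v4 1 2 3 1) ::
  v4 (v4 1 0 0 0) (v4 (-1) (-1) 0 0) (v4 0 0 (-1) 0) (v4 1 2 3 1) ::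
  v4 (v4 (-1) 0 0 0) (v4 0 (-1) 0 0) (v4 0 0 (-1) 0) (v4 1 2 3 1) :: []

/-- the matrices of `W_J`, `J = {1, 2, 3}` -/
def SD : List (Fin 4 → Fin 4 → ℤ) :=
  v4 (v4 1 0 0 0) (v4 0 1 0 0) (v4 0 0 1 0) (v4 0 0 0 1) ::
  v4 (v4 1 1 0 0) (v4 0 (-1) 0 0) (v4 0 1 1 0) (v4 0 0 0 1) ::
  v4 (v4 1 0 0 0) (v4 0 1 2 0) (v4 0 0 (-1) 0) (v4 0 0 1 1) ::
  v4 (v4 1 0 0 0) (v4 0 1 0 0) (v4 0 0 1 1) (v4 0 0 0 (-1)) ::
  v4 (v4 1 1 0 0) (v4 0 1 2 0) (v4 0 (-1) (-1) 0) (v4 0 1 1 1) ::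
  v4 (v4 1 1 0 0) (v4 0 (-1) 0 0) (v4 0 1 1 1) (v4 0 0 0 (-1)) ::
  v4 (v4 1 1 2 0) (v4 0 (-1) (-2) 0) (v4 0 1 1 0) (v4 0 0 1 1) ::
  v4 (v4 1 0 0 0) (v4 0 1 2 0) (v4 0 0 0 1) (v4 0 0 (-1) (-1)) ::
  v4 (v4 1 0 0 0) (v4 0 1 2 2) (v4 0 0 (-1) (-1)) (v4 0 0 1 0) ::
  v4 (v4 1 2 2 0) (v4 0 (-1) (-2) 0) (v4 0 0 1 0) (v4 0 1 1 1) ::
  v4 (v4 1 1 0 0) (v4 0 1 2 0) (v4 0 0 0 1) (v4 0 (-1) (-1) (-1)) ::
  v4 (v4 1 1 0 0) (v4 0 1 2 2) (v4 0 (-1) (-1) (-1)) (v4 0 1 1 0) ::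
  v4 (v4 1 1 2 0) (v4 0 1 0 0) (v4 0 (-1) (-1) 0) (v4 0 1 2 1) ::
  v4 (v4 1 1 2 0) (v4 0 (-1) (-2) 0) (v4 0 1 2 1) (v4 0 0 (-1) (-1)) ::
  v4 (v4 1 0 0 0) (v4 0 1 2 2) (v4 0 0 0 (-1)) (v4 0 0 (-1) 0) ::
  v4 (v4 1 1 2 2) (v4 0 (-1) (-2) (-2)) (v4 0 1 1 1) (v4 0 0 1 0) ::
  v4 (v4 1 2 2 0) (v4 0 (-1) 0 0) (v4 0 0 (-1) 0) (v4 0 1 2 1) ::
  v4 (v4 1 2 2 0) (v4 0 (-1) (-2) 0) (v4 0 1 2 1) (v4 0 (-1) (-1) (-1)) ::
  v4 (v4 1 1 0 0) (v4 0 1 2 2) (v4 0 0 0 (-1)) (v4 0 (-1) (-1) 0) ::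
  v4 (v4 1 2 2 2) (v4 0 (-1) (-2) (-2)) (v4 0 0 1 1) (v4 0 1 1 0) ::
  v4 (v4 1 1 2 0) (v4 0 1 0 0) (v4 0 0 1 1) (v4 0 (-1) (-2) (-1)) ::
  v4 (v4 1 1 2 0) (v4 0 1 2 2) (v4 0 (-1) (-2) (-1)) (v4 0 1 1 0) ::
  v4 (v4 1 1 2 2) (v4 0 (-1) (-2) (-2)) (v4 0 1 2 1) (v4 0 0 (-1) 0) ::
  v4 (v4 1 1 2 2) (v4 0 1 0 0) (v4 0 (-1) (-1) (-1)) (v4 0 1 2 1) ::
  v4 (v4 1 2 2 0) (v4 0 (-1) 0 0) (v4 0 1 1 1) (v4 0 (-1) (-2) (-1)) ::
  v4 (v4 1 2 2 0) (v4 0 1 2 2) (v4 0 (-1) (-2) (-1)) (v4 0 0 1 0) ::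
  v4 (v4 1 2 2 2) (v4 0 (-1) (-2) (-2)) (v4 0 1 2 1) (v4 0 (-1) (-1) 0) ::
  v4 (v4 1 2 2 2) (v4 0 (-1) 0 0) (v4 0 0 (-1) (-1)) (v4 0 1 2 1) ::
  v4 (v4 1 1 2 0) (v4 0 1 2 2) (v4 0 0 (-1) (-1)) (v4 0 (-1) (-1) 0) ::
  v4 (v4 1 2 4 2) (v4 0 (-1) (-2) (-2)) (v4 0 0 0 1) (v4 0 1 1 0) ::
  v4 (v4 1 1 2 2) (v4 0 1 2 0) (v4 0 (-1) (-2) (-1)) (v4 0 1 1 1) ::
  v4 (v4 1 1 2 2) (v4 0 1 0 0) (v4 0 0 1 0) (v4 0 (-1) (-2) (-1)) ::
  v4 (v4 1 2 2 0) (v4 0 1 2 2) (v4 0 (-1) (-1) (-1)) (v4 0 0 (-1) 0) ::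
  v4 (v4 1 3 4 2) (v4 0 (-1) (-2) (-2)) (v4 0 0 0 1) (v4 0 0 1 0) ::
  v4 (v4 1 2 2 2) (v4 0 1 2 0) (v4 0 (-1) (-2) (-1)) (v4 0 0 1 1) ::
  v4 (v4 1 2 2 2) (v4 0 (-1) 0 0) (v4 0 1 1 0) (v4 0 (-1) (-2) (-1)) ::
  v4 (v4 1 2 4 2) (v4 0 (-1) (-2) (-2)) (v4 0 1 1 1) (v4 0 (-1) (-1) 0) ::
  v4 (v4 1 2 4 2) (v4 0 (-1) (-2) 0) (v4 0 0 0 (-1)) (v4 0 1 1 1) ::
  v4 (v4 1 1 2 2) (v4 0 1 2 0) (v4 0 0 (-1) 0) (v4 0 (-1) (-1) (-1)) ::
  v4 (v4 1 3 4 2) (v4 0 (-1) (-2) (-2)) (v4 0 0 1 1) (v4 0 0 (-1) 0) ::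
  v4 (v4 1 3 4 2) (v4 0 (-1) (-2) 0) (v4 0 0 0 (-1)) (v4 0 0 1 1) ::
  v4 (v4 1 2 2 2) (v4 0 1 2 0) (v4 0 (-1) (-1) 0) (v4 0 0 (-1) (-1)) ::
  v4 (v4 1 2 4 2) (v4 0 1 0 0) (v4 0 (-1) (-1) (-1)) (v4 0 0 0 1) ::
  v4 (v4 1 2 4 2) (v4 0 (-1) (-2) 0) (v4 0 1 1 0) (v4 0 (-1) (-1) (-1)) ::
  v4 (v4 1 3 4 2) (v4 0 (-1) 0 0) (v4 0 0 (-1) (-1)) (v4 0 0 0 1) ::
  v4 (v4 1 3 4 2) (v4 0 (-1) (-2) 0) (v4 0 0 1 0) (v4 0 0 (-1) (-1)) ::
  v4 (v4 1 2 4 2) (v4 0 1 0 0) (v4 0 (-1) (-1) 0) (v4 0 0 0 (-1)) ::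
  v4 (v4 1 3 4 2) (v4 0 (-1) 0 0) (v4 0 0 (-1) 0) (v4 0 0 0 (-1)) :: []

/-- the orbit of the third fundamental weight -/
def OO : List (Fin 4 → ℤ) :=
  ![0, 0, 1, 0] :: v4 0 2 (-1) 1 :: v4 2 (-2) 1 1 :: v4 0 2 0 (-1) :: v4 (-2) 0 1 1 :: v4 2 0 (-1) 2 ::
  v4 2 (-2) 2 (-1) :: v4 (-2) 2 (-1) 2 :: v4 (-2) 0 2 (-1) :: v4 2 0 1 (-2) :: v4 2 2 (-2) 1 :: v4 0 (-2) 1 2 ::
  v4 (-2) 2 1 (-2) :: v4 (-2) 4 (-2) 1 :: v4 2 2 (-1) (-1) :: v4 4 (-2) 0 1 :: v4 0 0 (-1) 3 :: v4 0 (-2) 3 (-2) ::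
  v4 (-2) 4 (-1) (-1) :: v4 2 (-4) 2 1 :: v4 4 (-2) 1 (-1) :: v4 (-4) 2 0 1 :: v4 0 0 2 (-3) :: v4 0 4 (-3) 1 ::
  v4 2 (-4) 3 (-1) :: v4 (-2) (-2) 2 1 :: v4 2 0 (-2) 3 :: v4 (-4) 2 1 (-1) :: v4 4 0 (-1) 0 :: v4 0 4 (-2) (-1) ::
  v4 4 (-4) 1 1 :: v4 (-2) (-2) 3 (-1) :: v4 2 2 (-3) 2 :: v4 (-2) 2 (-2) 3 :: v4 2 0 1 (-3) :: v4 (-4) 4 (-1) 0 ::
  v4 4 (-4) 2 (-1) :: v4 (-4) 0 1 1 :: v4 4 (-2) (-1) 2 :: v4 (-2) 4 (-3) 2 :: v4 2 2 (-1) (-2) :: v4 0 (-2) 0 3 ::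
  v4 (-2) 2 1 (-3) :: v4 0 (-4) 3 0 :: v4 (-4) 0 2 (-1) :: v4 4 0 (-2) 1 :: v4 (-4) 2 (-1) 2 :: v4 4 (-2) 1 (-2) ::
  v4 2 (-4) 1 2 :: v4 (-2) 4 (-1) (-2) :: v4 0 (-2) 3 (-3) :: v4 0 2 (-3) 3 :: v4 (-4) 4 (-2) 1 :: v4 4 0 (-1) (-1) ::
  v4 (-2) (-2) 1 2 :: v4 (-4) 2 1 (-2) :: v4 2 (-2) (-1) 3 :: v4 2 (-4) 3 (-2) :: v4 0 4 (-3) 0 :: v4 0 2 0 (-3) ::
  v4 0 (-4) 2 1 :: v4 (-4) 4 (-1) (-1) :: v4 (-2) 0 (-1) 3 :: v4 (-2) (-2) 3 (-2) :: v4 2 (-2) 2 (-3) :: v4 2 2 (-3) 1 ::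
  v4 4 (-4) 1 0 :: v4 0 0 (-2) 3 :: v4 0 (-4) 3 (-1) :: v4 (-2) 0 2 (-3) :: v4 (-2) 4 (-3) 1 :: v4 2 2 (-2) (-1) ::
  v4 4 (-2) (-1) 1 :: v4 (-4) 0 1 0 :: v4 0 0 1 (-3) :: v4 0 2 (-3) 2 :: v4 (-2) 4 (-2) (-1) :: v4 2 (-4) 1 1 ::
  v4 4 (-2) 0 (-1) :: v4 (-4) 2 (-1) 1 :: v4 0 2 (-1) (-2) :: v4 2 (-2) (-1) 2 :: v4 2 (-4) 2 (-1) :: v4 (-2) (-2) 1 1 ::
  v4 (-4) 2 0 (-1) :: v4 2 (-2) 1 (-2) :: v4 (-2) 0 (-1) 2 :: v4 (-2) (-2) 2 (-1) :: v4 2 0 (-2) 1 :: v4 (-2) 0 1 (-2) ::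
  v4 2 0 (-1) (-1) :: v4 (-2) 2 (-2) 1 :: v4 (-2) 2 (-1) (-1) :: v4 0 (-2) 0 1 :: v4 0 (-2) 1 (-1) :: v4 0 0 (-1) 0 :: []

/-- combinations of the coordinates `0, 2, 3` -/
def CO : List (ℤ × ℤ × ℤ) := (beta% delta% lq2632fbdf7e fun _ b c _ e =>
 (b (c 0<|c (-3) 0)<|b (c 0<|c 3 0)<|b (c 0<|c 0 (-3))<|b (c 0<|c 0 3)<|b (c 0<|c (-3) (-3))<|b (c 0<|c 3 3)<|b (c 0<|c (-1) 0)<|b (c 0<|c 0 (-1))<|b (c 0<|c 1 1)<|e))

/-- the orbit modulo `3`: a word in `J = {0, 1, 2}` moving the weight to one with stabiliser in `W_(J - j)` -/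
def TC : List ((Fin 4 → ℤ) × List (Fin 4) × (Fin 4 → ℤ) × Fin 4) := (beta% delta% lq2632fbdf7e fun a b c d e =>
 (b (c (a 0<|a 0<|a 1<|a 0<|d)<|c e<|c (v4 0 0 1 0) 2)<|b (c (v4 0 (-1) (-1) 1)<|c (b 2<|e)<|c (v4 0 0 1 0) 2)<|
 b (c (v4 (-1) 1 1 1)<|c (b 2<|b 1<|e)<|c (v4 0 0 1 0) 2)<|b (c (v4 0 (-1) 0 (-1))<|c e<|c (v4 0 (-1) 0 (-1)) 1)<|
 b (c (v4 1 0 1 1)<|c (b 2<|b 1<|b 0<|e)<|c (v4 0 0 1 0) 2)<|b (c (v4 (-1) 0 (-1) (-1))<|c (b 2<|b 1<|b 0<|e)<|c (v4 0 0 (-1) 0) 2)<|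
 b (c (v4 (-1) 1 (-1) (-1))<|c (b 1<|e)<|c (v4 0 (-1) 0 (-1)) 1)<|b (c (v4 1 (-1) (-1) (-1))<|c (b 2<|b 1<|e)<|c (v4 0 0 (-1) 0) 2)<|
 b (c (v4 1 0 (-1) (-1))<|c (b 1<|b 0<|e)<|c (v4 0 (-1) 0 (-1)) 1)<|b (c (v4 (-1) 0 1 1)<|c (b 1<|b 0<|e)<|c (v4 0 1 0 1) 1)<|
 b (c (v4 (-1) (-1) 1 1)<|c (b 1<|b 2<|e)<|c (v4 0 (-1) 0 (-1)) 1)<|b (c (v4 0 1 1 (-1))<|c (b 2<|e)<|c (v4 0 0 (-1) 0) 2)<|
 b (c (v4 1 (-1) 1 1)<|c (b 1<|e)<|c (v4 0 1 0 1) 1)<|b (c (v4 1 1 1 1)<|c (b 1<|b 2<|b 0<|e)<|c (v4 0 (-1) 0 (-1)) 1)<|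
 b (c (v4 (-1) (-1) (-1) (-1))<|c (b 1<|b 2<|b 0<|e)<|c (v4 0 1 0 1) 1)<|b (c (v4 1 1 0 1)<|c (b 1<|b 2<|b 1<|e)<|c (v4 0 (-1) 0 (-1)) 1)<|
 b (c (v4 0 0 (-1) 0)<|c e<|c (v4 0 0 (-1) 0) 2)<|b (c (v4 0 1 0 1)<|c e<|c (v4 0 1 0 1) 1)<|
 b (c (v4 1 1 (-1) (-1))<|c (b 1<|b 2<|e)<|c (v4 0 1 0 1) 1)<|b (c (v4 (-1) (-1) (-1) 1)<|c (b 1<|b 2<|b 0<|e)<|c (v4 0 1 0 0) 1)<|
 b (c (v4 1 1 1 (-1))<|c (b 1<|b 2<|b 0<|e)<|c (v4 0 (-1) 0 0) 1)<|b (c (v4 (-1) (-1) 0 1)<|c (b 1<|b 2<|b 1<|e)<|c (v4 0 1 0 0) 1)<|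
 b (c (v4 (-1) (-1) 0 (-1))<|c (b 1<|b 2<|b 1<|e)<|c (v4 0 1 0 1) 1)<|b (c (v4 1 1 (-1) 1)<|c (b 1<|b 2<|e)<|c (v4 0 1 0 0) 1)<|
 b (c (v4 (-1) 0 1 0)<|c (b 1<|b 0<|e)<|c (v4 0 1 0 0) 1)<|b (c (v4 (-1) (-1) 1 (-1))<|c (b 1<|b 2<|e)<|c (v4 0 (-1) 0 0) 1)<|
 b (c (v4 1 0 (-1) 0)<|c (b 1<|b 0<|e)<|c (v4 0 (-1) 0 0) 1)<|b (c (v4 1 1 0 (-1))<|c (b 1<|b 2<|b 1<|e)<|c (v4 0 (-1) 0 0) 1)<|
 b (c (v4 1 (-1) 1 0)<|c (b 1<|e)<|c (v4 0 1 0 0) 1)<|b (c (v4 (-1) 1 (-1) 0)<|c (b 1<|e)<|c (v4 0 (-1) 0 0) 1)<|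
 b (c (v4 0 1 0 0)<|c e<|c (v4 0 1 0 0) 1)<|b (c (v4 0 (-1) 0 0)<|c e<|c (v4 0 (-1) 0 0) 1)<|e))

/-- the orbit modulo `3`: a word in `J = {1, 2, 3}` moving the weight to one with stabiliser in `W_(J - j)` -/
def TD : List ((Fin 4 → ℤ) × List (Fin 4) × (Fin 4 → ℤ) × Fin 4) := (beta% delta% lq2632fbdf7e fun a b c d e =>
 (b (c (a 0<|a 0<|a 1<|a 0<|d)<|c e<|c (v4 0 0 1 0) 2)<|b (c (v4 0 (-1) (-1) 1)<|c (b 2<|e)<|c (v4 0 0 1 0) 2)<|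
 b (c (v4 (-1) 1 1 1)<|c (b 2<|b 1<|e)<|c (v4 0 0 1 0) 2)<|b (c (v4 0 (-1) 0 (-1))<|c (b 2<|b 3<|e)<|c (v4 0 0 1 0) 2)<|
 b (c (v4 1 0 1 1)<|c (b 2<|b 1<|b 2<|e)<|c (v4 0 0 (-1) 0) 2)<|b (c (v4 (-1) 0 (-1) (-1))<|c (b 2<|b 1<|b 2<|e)<|c (v4 0 0 1 0) 2)<|
 b (c (v4 (-1) 1 (-1) (-1))<|c (b 2<|b 3<|b 1<|e)<|c (v4 0 0 1 0) 2)<|b (c (v4 1 (-1) (-1) (-1))<|c (b 2<|b 1<|e)<|c (v4 0 0 (-1) 0) 2)<|
 b (c (v4 1 0 (-1) (-1))<|c (b 2<|b 1<|b 2<|e)<|c (v4 (-1) 0 1 0) 2)<|b (c (v4 (-1) 0 1 1)<|c (b 2<|b 1<|b 2<|e)<|c (v4 1 0 (-1) 0) 2)<|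
 b (c (v4 (-1) (-1) 1 1)<|c (b 2<|b 3<|b 1<|e)<|c (v4 1 0 (-1) 0) 2)<|b (c (v4 0 1 1 (-1))<|c (b 2<|e)<|c (v4 0 0 (-1) 0) 2)<|
 b (c (v4 1 (-1) 1 1)<|c (b 2<|b 3<|b 1<|e)<|c (v4 0 0 (-1) 0) 2)<|b (c (v4 1 1 1 1)<|c (b 2<|b 1<|e)<|c (v4 (-1) 0 1 0) 2)<|
 b (c (v4 (-1) (-1) (-1) (-1))<|c (b 2<|b 1<|e)<|c (v4 1 0 (-1) 0) 2)<|b (c (v4 1 1 0 1)<|c (b 2<|b 3<|e)<|c (v4 1 0 (-1) 0) 2)<|
 b (c (v4 0 0 (-1) 0)<|c e<|c (v4 0 0 (-1) 0) 2)<|b (c (v4 0 1 0 1)<|c (b 2<|b 3<|e)<|c (v4 0 0 (-1) 0) 2)<|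
 b (c (v4 1 1 (-1) (-1))<|c (b 2<|b 3<|b 1<|e)<|c (v4 (-1) 0 1 0) 2)<|b (c (v4 (-1) (-1) (-1) 1)<|c (b 2<|e)<|c (v4 (-1) 0 1 0) 2)<|
 b (c (v4 1 1 1 (-1))<|c (b 2<|e)<|c (v4 1 0 (-1) 0) 2)<|b (c (v4 (-1) (-1) 0 1)<|c (b 1<|b 2<|b 1<|e)<|c (v4 0 1 0 0) 1)<|
 b (c (v4 (-1) (-1) 0 (-1))<|c (b 2<|b 3<|e)<|c (v4 (-1) 0 1 0) 2)<|b (c (v4 1 1 (-1) 1)<|c (b 1<|b 2<|e)<|c (v4 0 1 0 0) 1)<|
 b (c (v4 (-1) 0 1 0)<|c e<|c (v4 (-1) 0 1 0) 2)<|b (c (v4 (-1) (-1) 1 (-1))<|c (b 1<|b 2<|e)<|c (v4 0 (-1) 0 0) 1)<|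
 b (c (v4 1 0 (-1) 0)<|c e<|c (v4 1 0 (-1) 0) 2)<|b (c (v4 1 1 0 (-1))<|c (b 1<|b 2<|b 1<|e)<|c (v4 0 (-1) 0 0) 1)<|
 b (c (v4 1 (-1) 1 0)<|c (b 1<|e)<|c (v4 0 1 0 0) 1)<|b (c (v4 (-1) 1 (-1) 0)<|c (b 1<|e)<|c (v4 0 (-1) 0 0) 1)<|
 b (c (v4 0 1 0 0)<|c e<|c (v4 0 1 0 0) 1)<|b (c (v4 0 (-1) 0 0)<|c e<|c (v4 0 (-1) 0 0) 1)<|e))

theorem ap_eq (m : Fin 4 → Fin 4 → ℤ) (v : Fin 4 → ℤ) : app m v = ap m v := by
  funext i
  simp only [app, ap, Fin.sum_univ_four, smul_eq_mul]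

theorem row_eq (m : Fin 4 → Fin 4 → ℤ) (c : Fin 4 → ℤ) (k : Fin 4) :
    ∑ i, c i * (m i k - idM i k) = row m c k := by
  simp only [row, idM, Fin.sum_univ_four]
  (revert k; simp only [_root_.Fin.forall_fin_succ, Fin.isValue, ↓reduceIte, _root_.one_ne_zero, _root_.sub_zero, Fin.reduceEq, _root_.Fin.succ_zero_eq_one, _root_.zero_ne_one, _root_.Fin.succ_one_eq_two, Fin.reduceSucc, _root_.IsEmpty.forall_iff, _root_.and_true]) <;> (repeat' with_reducible apply And.intro) <;> ring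

theorem pairing_AI (y : Fin 4 → ℤ) (i : Fin 4) : pairing AF i (ap AI y) = y i := by
  simp only [pairing, ap, AF, AI, Fin.sum_univ_four]
  (revert i; simp only [_root_.Fin.forall_fin_succ, Int.reduceNeg, Fin.isValue, _root_.Matrix.cons_val', _root_.Matrix.cons_val_zero, _root_.Matrix.cons_val_fin_one, _root_.Matrix.cons_val_one, _root_.Matrix.cons_val, _root_.one_mul, _root_.neg_mul, _root_.neg_add_rev, _root_.MulZeroClass.zero_mul, _root_.add_zero, _root_.Matrix.cons_val_succ, _root_.Fin.succ_zero_eq_one, _root_.zero_add, _root_.Fin.succ_one_eq_two, Fin.reduceSucc, _root_.IsEmpty.forall_iff, _root_.and_true]) <;> (repeat' with_reducible apply And.intro) <;> ring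

theorem pairing_inj (x : Fin 4 → ℤ) (hx : ∀ i, pairing AF i x = 0) : x = 0 := by
  have h0 := hx 0
  have h1 := hx 1
  have h2 := hx 2
  have h3 := hx 3
  simp only [pairing, AF, Fin.sum_univ_four, _root_.Cfsg.Agent.ChevalleyStructure.CoxeterGeom.pairing, _root_.Cfsg.Agent.H650.OZ.FF.AF, _root_.Int.reduceNeg, _root_.Fin.isValue, _root_.Matrix.cons_val', _root_.Matrix.cons_val_fin_one, _root_.Matrix.cons_val_zero, _root_.Fin.sum_univ_four, _root_.Matrix.cons_val_one, _root_.neg_mul, _root_.one_mul, _root_.Matrix.cons_val, _root_.MulZeroClass.zero_mul, _root_.add_zero, _root_.zero_add] at h0 h1 h2 h3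
  funext i
  fin_cases i <;> simp <;> omega

theorem eqV_iff {a b : Fin 4 → ℤ} : eqV a b = true ↔ a = b := by
  unfold eqV
  simp only [Bool.and_eq_true, beq_iff_eq]
  constructor
  · rintro ⟨h0, h1, h2, h3⟩
    funext i
    fin_cases i
    · exact h0
    · exact h1
    · exact h2
    · exact h3
  · rintro rfl
    exact ⟨rfl, rfl, rfl, rfl⟩

theorem eqM_iff {a b : Fin 4 → Fin 4 → ℤ} : eqM a b = true ↔ a = b := by
  unfold eqM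
  simp only [Bool.and_eq_true, eqV_iff]
  constructor
  · rintro ⟨h0, h1, h2, h3⟩
    funext i
    fin_cases i
    · exact h0
    · exact h1
    · exact h2
    · exact h3
  · rintro rfl
    exact ⟨rfl, rfl, rfl, rfl⟩

theorem dv3_iff {a : Fin 4 → ℤ} : dv3 a = true ↔ ∀ i, (3 : ℤ) ∣ a i := by
  unfold dv3
  simp only [Bool.and_eq_true, beq_iff_eq, ← Int.dvd_iff_emod_eq_zero]
  constructor
  · rintro ⟨h0, h1, h2, h3⟩ i
    fin_cases i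
    · exact h0
    · exact h1
    · exact h2
    · exact h3
  · intro h
    exact ⟨h 0, h 1, h 2, h 3⟩

theorem mem_I4 (i : Fin 4) : i ∈ I4 := by
  (revert i; simp only [I4, _root_.Fin.forall_fin_succ, Fin.isValue, _root_.List.mem_cons, _root_.List.not_mem_nil, _root_.or_false, _root_.zero_ne_one, Fin.reduceEq, _root_.or_self, _root_.Fin.succ_ne_zero, _root_.false_or, _root_.Fin.succ_zero_eq_one, _root_.Fin.succ_one_eq_two, _root_.or_true, Fin.reduceSucc, _root_.IsEmpty.forall_iff, _root_.and_self])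

/-! ### the tables -/

/-- `S` contains the identity and is closed under the reflections of `J` -/
def clo (S : List (Fin 4 → Fin 4 → ℤ)) (J : List (Fin 4)) : Bool :=
  S.any (eqM idM) && S.all fun m => J.all fun j => S.any (eqM (mulS AF j m))

theorem clo_SA : clo SA [0, 1, 3] = true := by decide +kernel

theorem clo_SB : clo SB [0, 2, 3] = true := by decide +kernel

private noncomputable def _root_.Cfsg.Agent.LsF.fc0aad1_0 : {f // @Cfsg.Agent.H650.OZ.FF.eqV = f} := ⟨_, by first | (delta Cfsg.Agent.H650.OZ.FF.eqV; rewrite [Cfsg.Agent.LsF.ibeq_pat, Cfsg.Agent.LsF.and_eq]; exact rfl) | exact rfl⟩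
private noncomputable def _root_.Cfsg.Agent.LsF.fc0aad1_1 : {f // @Cfsg.Agent.H650.OZ.FF.eqM = f} := ⟨_, by first | (delta Cfsg.Agent.H650.OZ.FF.eqM; rewrite [Cfsg.Agent.LsF.fc0aad1_0.2, Cfsg.Agent.LsF.and_eq]; exact rfl) | exact rfl⟩
private noncomputable def _root_.Cfsg.Agent.LsF.fc0aad1_2 : {f // @Cfsg.Agent.H650.OZ.FF.AF = f} := ⟨_, by first | (delta Cfsg.Agent.H650.OZ.FF.AF; rewrite [Cfsg.Agent.LsF.ineg_pat, Cfsg.Agent.LsF.vecCons_eq]; exact rfl) | exact rfl⟩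
private noncomputable def _root_.Cfsg.Agent.LsF.fc0aad1_3 : {f // @Cfsg.Agent.H650.OZ.FF.clo = f} := ⟨_, by first | (delta Cfsg.Agent.H650.OZ.FF.clo Cfsg.Agent.H650.OZ.idM Cfsg.Agent.H650.OZ.mulS; rewrite [Cfsg.Agent.LsF.fc0aad1_1.2, Cfsg.Agent.LsF.fc0aad1_2.2, Cfsg.Agent.LsF.imul_pat, Cfsg.Agent.LsF.isub_pat, Cfsg.Agent.LsF.and_eq, Cfsg.Agent.LsF.all_eq, Cfsg.Agent.LsF.any_eq, Cfsg.Agent.LsF.dFinEq_eq, Cfsg.Agent.LsF.ite_eq]; exact rfl) | exact rfl⟩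
theorem clo_SC : clo SC [0, 1, 2] = true := by ((try (rewrite [Cfsg.Agent.LsF.fc0aad1_3.2])); decide +kernel)

theorem clo_SD : clo SD [1, 2, 3] = true := by ((try (rewrite [Cfsg.Agent.LsF.fc0aad1_3.2])); decide +kernel)

private noncomputable def _root_.Cfsg.Agent.LsF.fc0aad1_4 : {f // @Cfsg.Agent.H650.OZ.FF.OO = f} := ⟨_, by first | (delta Cfsg.Agent.H650.OZ.FF.OO; rewrite [Cfsg.Agent.LsF.ineg_pat, Cfsg.Agent.LsF.vecCons_eq]; exact rfl) | exact rfl⟩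
theorem OO_clo : (OO.all fun μ => I4.all fun j => OO.any (eqV (act AF j μ))) = true := by ((try (rewrite [Cfsg.Agent.LsF.fc0aad1_4.2, Cfsg.Agent.LsF.fc0aad1_0.2, Cfsg.Agent.LsF.fc0aad1_2.2, Cfsg.Agent.LsF.all_eq, Cfsg.Agent.LsF.any_eq])); decide +kernel)

theorem OO_cert : (OO.all fun μ => CO.any fun t => t.1 * μ 0 + t.2.1 * μ 2 + t.2.2 * μ 3 == 3) = true := by
  decide +kernel

/-- the table `L` for the order three case -/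
def tab (S : List (Fin 4 → Fin 4 → ℤ)) (J : List (Fin 4)) (L : List ((Fin 4 → ℤ) × List (Fin 4) × (Fin 4 → ℤ) × Fin 4)) :
    Bool :=
  L.all fun t => (I4.all fun j => L.any fun t' => dv3 fun i => act AF j t.1 i - t'.1 i) &&
    ((t.2.1.all fun j => J.any fun k => j == k) && (dv3 (fun i => actw AF t.2.1 t.1 i - t.2.2.1 i) &&
    ((J.any fun k => t.2.2.2 == k) &&
    S.all fun m => !(dv3 fun i => ap m t.2.2.1 i - t.2.2.1 i) || eqV (ap m (yy J t.2.2.2)) (yy J t.2.2.2))))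

private noncomputable def _root_.Cfsg.Agent.LsF.fc0aad1_5 : {f // @Cfsg.Agent.H650.OZ.FF.dv3 = f} := ⟨_, by first | (delta Cfsg.Agent.H650.OZ.FF.dv3; rewrite [Cfsg.Agent.LsF.imod_pat, Cfsg.Agent.LsF.ibeq_pat, Cfsg.Agent.LsF.and_eq]; exact rfl) | exact rfl⟩
private noncomputable def _root_.Cfsg.Agent.LsF.fc0aad1_6 : {f // @Cfsg.Agent.H650.OZ.FF.ap = f} := ⟨_, by first | (delta Cfsg.Agent.H650.OZ.FF.ap; rewrite [Cfsg.Agent.LsF.iadd_pat, Cfsg.Agent.LsF.imul_pat]; exact rfl) | exact rfl⟩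
private noncomputable def _root_.Cfsg.Agent.LsF.fc0aad1_7 : {f // @Cfsg.Agent.H650.OZ.FF.yy = f} := ⟨_, by first | (delta Cfsg.Agent.H650.OZ.FF.yy; rewrite [Cfsg.Agent.LsF.dMemE_pat, Cfsg.Agent.LsF.dAnd_eq, Cfsg.Agent.LsF.dNot_eq, Cfsg.Agent.LsF.dFinEq_eq, Cfsg.Agent.LsF.ite_eq]; exact rfl) | exact rfl⟩
private noncomputable def _root_.Cfsg.Agent.LsF.fc0aad1_8 : {f // @Cfsg.Agent.H650.OZ.FF.tab = f} := ⟨_, by first | (delta Cfsg.Agent.H650.OZ.FF.tab List.brecOn List.brecOn.go Cfsg.Agent.H650.OZ.actw._f Cfsg.Agent.H650.OZ.actw; rewrite [Cfsg.Agent.LsF.fc0aad1_5.2, Cfsg.Agent.LsF.fc0aad1_2.2, Cfsg.Agent.LsF.fc0aad1_6.2, Cfsg.Agent.LsF.fc0aad1_0.2, Cfsg.Agent.LsF.fc0aad1_7.2, Cfsg.Agent.LsF.isub_pat, Cfsg.Agent.LsF.fbeq_pat, Cfsg.Agent.LsF.and_eq, Cfsg.Agent.LsF.or_eq, Cfsg.Agent.LsF.not_eq, Cfsg.Agent.LsF.all_eq, Cfsg.Agent.LsF.any_eq]; (try delta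 Cfsg.Agent.H650.OZ.actw.match_1); (try delta List.casesOn); first | dsimp -zeta only | exact rfl) | exact rfl⟩
private noncomputable def _root_.Cfsg.Agent.LsF.fc0aad1_9 : {f // @Cfsg.Agent.H650.OZ.FF.TC = f} := ⟨_, by first | (delta Cfsg.Agent.H650.OZ.FF.TC; rewrite [Cfsg.Agent.LsF.ineg_pat, Cfsg.Agent.LsF.vecCons_eq]; exact rfl) | exact rfl⟩
theorem tab_C : tab SC [0, 1, 2] TC = true := by ((try (rewrite [Cfsg.Agent.LsF.fc0aad1_8.2, Cfsg.Agent.LsF.fc0aad1_9.2])); decide +kernel)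

private noncomputable def _root_.Cfsg.Agent.LsF.fc0aad1_10 : {f // @Cfsg.Agent.H650.OZ.FF.TD = f} := ⟨_, by first | (delta Cfsg.Agent.H650.OZ.FF.TD; rewrite [Cfsg.Agent.LsF.ineg_pat, Cfsg.Agent.LsF.vecCons_eq]; exact rfl) | exact rfl⟩
theorem tab_D : tab SD [1, 2, 3] TD = true := by ((try (rewrite [Cfsg.Agent.LsF.fc0aad1_8.2, Cfsg.Agent.LsF.fc0aad1_10.2])); decide +kernel)

/-- the combinations of the rows of `m - 1` -/
def certs (S : List (Fin 4 → Fin 4 → ℤ)) (y : Fin 4 → ℤ) (L D : List (Fin 4 → ℤ)) : Bool :=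
  S.all fun m => eqV (ap m y) y || L.any fun c => D.any (eqV (row m c))

/-- the relations -/
def DA0 : List (Fin 4 → ℤ) := (beta% delta% lq2632fbdf7e fun a b _ d e =>
 (b (a 1<|a 0<|a 0<|a 0<|d)<|b (a 1<|a 0<|a 0<|a 1<|d)<|b (a 1<|a 1<|a 0<|a 0<|d)<|b (a 1<|a 1<|a 0<|a 1<|d)<|e))

/-- the relations -/
def DA1 : List (Fin 4 → ℤ) := (beta% delta% lq2632fbdf7e fun a b _ d e =>
 (b (a 0<|a 1<|a 0<|a 0<|d)<|b (a 0<|a 1<|a 0<|a 1<|d)<|b (a 0<|a 1<|a 0<|a 2<|d)<|b (a 1<|a 1<|a 0<|a 0<|d)<|b (a 1<|a 1<|a 0<|a 1<|d)<|e))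

/-- the relations -/
def DB2 : List (Fin 4 → ℤ) := (beta% delta% lq2632fbdf7e fun a b _ d e =>
 (b (a 0<|a 0<|a 1<|a 0<|d)<|b (a 0<|a 0<|a 1<|a 1<|d)<|b (a 1<|a 0<|a 1<|a 0<|d)<|b (a 2<|a 0<|a 1<|a 1<|d)<|b (a 3<|a 0<|a 1<|a 0<|d)<|b (a 3<|a 0<|a 1<|a 1<|d)<|e))

/-- the relations -/
def DB3 : List (Fin 4 → ℤ) := (beta% delta% lq2632fbdf7e fun a b _ d e =>
 (b (a 0<|a 0<|a 0<|a 1<|d)<|b (a 0<|a 0<|a 1<|a 1<|d)<|b (a 1<|a 0<|a 0<|a 1<|d)<|b (a 2<|a 0<|a 1<|a 1<|d)<|b (a 3<|a 0<|a 0<|a 1<|d)<|e))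

theorem cert_A3 : (beta% delta% lq2632fbdf7e fun a b _ d e =>
 certs SA (yy (b 0<|b 1<|b 3<|e) 3) (b (a (-1)<|a (-2)<|a (-3)<|a (-2)<|d)<|b (a (-1)<|a (-1)<|a (-1)<|a (-1)<|d)<|b (a (-1)<|a 0<|a (-1)<|a (-1)<|d)<|b (a 0<|a 0<|a (-1)<|a (-1)<|d)<|e)
 (b (a 0<|a 0<|a 0<|a 1<|d)<|e) :
 Bool) = true := by decide +kernel

theorem cert_A0 : certs SA (yy [0, 1, 3] 0) [![-1, -1, -1, -1]] DA0 = true := by decide +kernel

theorem cert_A1 : (beta% delta% lq2632fbdf7e fun a b _ d e =>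
 certs SA (yy (b 0<|b 1<|b 3<|e) 1) (b (a (-1)<|a (-1)<|a (-1)<|a (-1)<|d)<|b (a (-1)<|a (-1)<|a 0<|a (-1)<|d)<|b (a 0<|a (-1)<|a (-1)<|a (-1)<|d)<|e) DA1 :
 Bool) = true := by
  decide +kernel

theorem cert_B0 : (beta% delta% lq2632fbdf7e fun a b _ d e =>
 certs SB (yy (b 0<|b 2<|b 3<|e) 0) (b (a (-2)<|a (-3)<|a (-4)<|a (-2)<|d)<|b (a (-1)<|a (-1)<|a (-1)<|a (-1)<|d)<|b (a (-1)<|a (-1)<|a (-1)<|a 0<|d)<|b (a (-1)<|a (-1)<|a 0<|a 0<|d)<|e)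
 (b (a 1<|a 0<|a 0<|a 0<|d)<|e) :
 Bool) = true := by decide +kernel

theorem cert_B2 : (beta% delta% lq2632fbdf7e fun a b _ d e =>
 certs SB (yy (b 0<|b 2<|b 3<|e) 2) (b (a (-1)<|a (-1)<|a (-1)<|a 1<|d)<|b (a (-1)<|a 0<|a (-1)<|a 0<|d)<|b (a (-1)<|a 1<|a 1<|a 0<|d)<|b (a (-1)<|a 1<|a 1<|a 1<|d)<|e)
 DB2 :
 Bool) = true := by decide +kernel

theorem cert_B3 : (beta% delta% lq2632fbdf7e fun a b _ d e =>
 certs SB (yy (b 0<|b 2<|b 3<|e) 3) (b (a (-1)<|a (-1)<|a (-1)<|a (-1)<|d)<|b (a (-1)<|a 0<|a (-1)<|a 0<|d)<|b (a (-1)<|a 1<|a 1<|a 0<|d)<|e) DB3 :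
 Bool) = true := by
  decide +kernel

/-! ### vectors in an additive group -/

section Vec

variable {G : Type*} [AddCommGroup G]

/-- some matrix of `S` fixes `v` and moves `y` -/
def St (S : List (Fin 4 → Fin 4 → ℤ)) (y : Fin 4 → ℤ) (v : Fin 4 → G) : Prop := ∃ m ∈ S, app m v = v ∧ ap m y ≠ y

theorem rel_of_St {S : List (Fin 4 → Fin 4 → ℤ)} {y : Fin 4 → ℤ} {L D : List (Fin 4 → ℤ)} (hc : certs S y L D = true)
    {v : Fin 4 → G} (hv : St S y v) : ∃ d ∈ D, d 0 • v 0 + d 1 • v 1 + d 2 • v 2 + d 3 • v 3 = 0 := by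
  obtain ⟨m, hm, hmv, hmy⟩ := hv
  unfold certs at hc
  rw [List.all_eq_true] at hc
  have h1 := hc m hm
  rw [Bool.or_eq_true, eqV_iff, List.any_eq_true] at h1
  rcases h1 with h1 | ⟨c, -, h1⟩
  · exact absurd h1 hmy
  rw [List.any_eq_true] at h1
  obtain ⟨d, hd, h1⟩ := h1
  rw [eqV_iff] at h1
  refine ⟨d, hd, ?_⟩
  have h2 := rel_of_app_eq hmv c d fun k => by rw [row_eq, h1]
  rwa [Fin.sum_univ_four] at h2

theorem vec_A {v : Fin 4 → G} (h3 : St SA (yy [0, 1, 3] 3) v) (h0 : St SA (yy [0, 1, 3] 0) v)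
    (h1 : St SA (yy [0, 1, 3] 1) v) (h0' : St SA (yy [0, 1, 3] 0) (act AF 0 v)) : v 0 = 0 ∧ v 1 = 0 ∧ v 3 = 0 := by
  have e3 : v 3 = 0 := by
    obtain ⟨d, hd, e⟩ := rel_of_St cert_A3 h3
    simp only [List.mem_singleton] at hd
    subst hd
    simpa using e
  have e0 : ∀ w : Fin 4 → G, w 3 = 0 → St SA (yy [0, 1, 3] 0) w → w 0 = 0 ∨ w 0 + w 1 = 0 := by
    intro w hw hs
    obtain ⟨d, hd, e⟩ := rel_of_St cert_A0 hs
    simp only [DA0, List.mem_cons, List.not_mem_nil, or_false] at hd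
    rcases hd with rfl | rfl | rfl | rfl <;> simp only [hw, _root_.Fin.isValue, _root_.Matrix.cons_val_zero, _root_.one_smul, _root_.Matrix.cons_val_one, _root_.zero_smul, _root_.add_zero, _root_.Matrix.cons_val, _root_.smul_zero] at e <;> (clear * - G w e; tauto)
  have e1 : v 1 = 0 ∨ v 0 + v 1 = 0 := by
    obtain ⟨d, hd, e⟩ := rel_of_St cert_A1 h1
    simp only [DA1, List.mem_cons, List.not_mem_nil, or_false] at hd
    rcases hd with rfl | rfl | rfl | rfl | rfl <;> simp only [e3, _root_.Fin.isValue, _root_.Matrix.cons_val_zero, _root_.zero_smul, _root_.Matrix.cons_val_one, _root_.one_smul, _root_.zero_add, _root_.Matrix.cons_val, _root_.add_zero, _root_.smul_zero] at e <;> tauto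
  have a0 : act AF 0 v 0 = - v 0 := by
    simp only [act, AF]
    simp only [_root_.Fin.isValue, _root_.Int.reduceNeg, _root_.Matrix.cons_val', _root_.Matrix.cons_val_zero, _root_.Matrix.cons_val_fin_one]
    abel
  have a1 : act AF 0 v 1 = v 1 + v 0 := by
    simp only [act, AF]
    simp
  have a3 : act AF 0 v 3 = v 3 := by
    simp only [act, AF]
    simp
  have key : v 0 + v 1 = 0 → v 0 = 0 := by
    intro hs
    rcases e0 _ (a3.trans e3) h0' with h | h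
    · rwa [a0, neg_eq_zero] at h
    · rw [a0, a1, add_comm (v 1), hs, add_zero, neg_eq_zero] at h
      exact h
  have e00 : v 0 = 0 := by
    rcases e0 v e3 h0 with h | h
    · exact h
    · exact key h
  refine ⟨e00, ?_, e3⟩
  rcases e1 with h | h
  · exact h
  · rwa [e00, zero_add] at h

theorem vec_B {v : Fin 4 → G} (h0 : St SB (yy [0, 2, 3] 0) v) (h2 : St SB (yy [0, 2, 3] 2) v)
    (h3 : St SB (yy [0, 2, 3] 3) v) (h2' : St SB (yy [0, 2, 3] 2) (act AF 2 v)) : v 0 = 0 ∧ v 2 = 0 ∧ v 3 = 0 := by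
  have e0 : v 0 = 0 := by
    obtain ⟨d, hd, e⟩ := rel_of_St cert_B0 h0
    simp only [List.mem_singleton] at hd
    subst hd
    simpa using e
  have e2 : ∀ w : Fin 4 → G, w 0 = 0 → St SB (yy [0, 2, 3] 2) w → w 2 = 0 ∨ w 2 + w 3 = 0 := by
    intro w hw hs
    obtain ⟨d, hd, e⟩ := rel_of_St cert_B2 hs
    simp only [DB2, List.mem_cons, List.not_mem_nil, or_false] at hd
    rcases hd with rfl | rfl | rfl | rfl | rfl | rfl <;> simp only [hw, _root_.Fin.isValue, _root_.Matrix.cons_val_zero, _root_.smul_zero, _root_.Matrix.cons_val_one, _root_.zero_smul, _root_.add_zero, _root_.Matrix.cons_val, _root_.one_smul, _root_.zero_add] at e <;> (clear * - G w e; tauto)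
  have e3 : v 3 = 0 ∨ v 2 + v 3 = 0 := by
    obtain ⟨d, hd, e⟩ := rel_of_St cert_B3 h3
    simp only [DB3, List.mem_cons, List.not_mem_nil, or_false] at hd
    rcases hd with rfl | rfl | rfl | rfl | rfl <;> simp only [e0, _root_.Fin.isValue, _root_.Matrix.cons_val_zero, _root_.smul_zero, _root_.Matrix.cons_val_one, _root_.zero_smul, _root_.add_zero, _root_.Matrix.cons_val, _root_.one_smul, _root_.zero_add] at e <;> tauto
  have a2 : act AF 2 v 2 = - v 2 := by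
    simp only [act, AF]
    simp only [_root_.Fin.isValue, _root_.Int.reduceNeg, _root_.Matrix.cons_val', _root_.Matrix.cons_val, _root_.Matrix.cons_val_fin_one, _root_.Matrix.cons_val_one, _root_.Matrix.cons_val_zero]
    abel
  have a3 : act AF 2 v 3 = v 3 + v 2 := by
    simp only [act, AF]
    simp
  have a0 : act AF 2 v 0 = v 0 := by
    simp only [act, AF]
    simp
  have key : v 2 + v 3 = 0 → v 2 = 0 := by
    intro hs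
    rcases e2 _ (a0.trans e0) h2' with h | h
    · rwa [a2, neg_eq_zero] at h
    · rw [a2, a3, add_comm (v 3), hs, add_zero, neg_eq_zero] at h
      exact h
  have e22 : v 2 = 0 := by
    rcases e2 v e0 h2 with h | h
    · exact h
    · exact key h
  refine ⟨e0, e22, ?_⟩
  rcases e3 with h | h
  · exact h
  · rwa [e22, zero_add] at h

theorem zsmul_of_dvd {c : G} (hc : (3 : ℤ) • c = 0) {z : ℤ} (hz : 3 ∣ z) : z • c = 0 := by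
  obtain ⟨y, rfl⟩ := hz
  rw [mul_comm, mul_smul, hc, smul_zero]

theorem zsmul_eq_of_dvd {c : G} (hc : (3 : ℤ) • c = 0) {y z : ℤ} (hz : 3 ∣ y - z) : y • c = z • c := by
  rw [← sub_eq_zero, ← sub_smul]
  exact zsmul_of_dvd hc hz

theorem dvd_of_zsmul_eq {c : G} (hc0 : c ≠ 0) (hc : (3 : ℤ) • c = 0) {y z : ℤ} (hz : y • c = z • c) : 3 ∣ y - z := by
  rw [← sub_eq_zero, ← sub_smul] at hz
  by_contra h6
  apply hc0
  obtain ⟨a, b, hab⟩ := (Prime.coprime_iff_not_dvd Int.prime_three).2 h6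
  rw [← one_smul ℤ c, ← hab, add_smul, mul_smul, mul_smul, hc, hz, smul_zero, smul_zero, add_zero]

theorem three_of {c : G} {x y z a b d : ℤ} (h : a * x + b * y + d * z = 3) (hx : x • c = 0) (hy : y • c = 0)
    (hz : z • c = 0) : (3 : ℤ) • c = 0 := by
  rw [← h, add_smul, add_smul, mul_smul, mul_smul, mul_smul, hx, hy, hz, smul_zero, smul_zero, smul_zero, add_zero,
    add_zero]

end Vec

/-! ### characters -/

section Char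

universe u

variable {W : Type*} {Y : Type u} [Group W] [Group Y] {M : CoxeterMatrix (Fin 4)}
  {cs : CoxeterSystem M W} {T : Subgroup Y} {n : Fin 4 → Y} {hN : NSys M T n}
  {E : Type*} [CommGroup E] {hh : Fin 4 → E →* T} [Finite W] (C : TCo AF T n hh) (h : IsCartan M AF)

include C h

theorem st_of_NP {S : List (Fin 4 → Fin 4 → ℤ)} {J : List (Fin 4)} (hclo : clo S J = true) {l : T →* ℂˣ}
    (hl : NP cs hN {i | i ∈ J} l) (ω : List (Fin 4)) (hω : ∀ j ∈ ω, j ∈ J) {j : Fin 4} (hj : j ∈ J) :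
    St S (yy J j) (actw AF ω (co hh l)) := by
  unfold clo at hclo
  rw [Bool.and_eq_true, List.any_eq_true, List.all_eq_true] at hclo
  obtain ⟨⟨m1, hm1, e1⟩, hS⟩ := hclo
  rw [eqM_iff] at e1
  obtain ⟨m, hm, h1, h2⟩ := hl.exists_mat C h S (e1 ▸ hm1) (fun m hm j hj => by
    have h1 := hS m hm
    rw [List.all_eq_true] at h1
    have h2 := h1 j hj
    rw [List.any_eq_true] at h2
    obtain ⟨m', hm', e⟩ := h2
    rw [eqM_iff] at e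
    exact e ▸ hm') pairing_inj ω hω (x := ap AI (yy J j)) (y := yy J j) (pairing_AI _)
    (fun i => by
      change (0 : ℤ) ≤ yy J j i
      unfold yy
      split <;> norm_num) (by
      have hy : ∀ i, yy J j i = 0 ↔ i ∈ J ∧ i ≠ j := by
        intro i
        unfold yy
        split_ifs with hi
        · exact ⟨fun _ => hi, fun _ => rfl⟩
        · exact ⟨fun h => absurd h one_ne_zero, fun h => absurd h hi⟩
      refine ⟨fun i hi => ((hy i).1 hi).1, fun hsub => ?_⟩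
      exact ((hy j).1 (hsub hj)).2 rfl)
  exact ⟨m, hm, h1, by rwa [← ap_eq]⟩

/-- the coordinates of a character seen by `A_2 × A_1` -/
theorem triv_A {l : T →* ℂˣ} (hl : NP cs hN {0, 1, 3} l) : co hh l 0 = 0 ∧ co hh l 1 = 0 ∧ co hh l 3 = 0 := by
  have e : ({0, 1, 3} : Set (Fin 4)) = {i | i ∈ ([0, 1, 3] : List (Fin 4))} := by
    ext i
    simp
  rw [e] at hl
  exact vec_A (st_of_NP C h clo_SA hl [] (by simp) (by simp)) (st_of_NP C h clo_SA hl [] (by simp) (by simp))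
    (st_of_NP C h clo_SA hl [] (by simp) (by simp)) (st_of_NP C h clo_SA hl [0] (by simp) (by simp))

/-- the coordinates of a character seen by `A_1 × A_2` -/
theorem triv_B {l : T →* ℂˣ} (hl : NP cs hN {0, 2, 3} l) : co hh l 0 = 0 ∧ co hh l 2 = 0 ∧ co hh l 3 = 0 := by
  have e : ({0, 2, 3} : Set (Fin 4)) = {i | i ∈ ([0, 2, 3] : List (Fin 4))} := by
    ext i
    simp
  rw [e] at hl
  exact vec_B (st_of_NP C h clo_SB hl [] (by simp) (by simp)) (st_of_NP C h clo_SB hl [] (by simp) (by simp))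
    (st_of_NP C h clo_SB hl [] (by simp) (by simp)) (st_of_NP C h clo_SB hl [2] (by simp) (by simp))

/-- the order three case -/
theorem not_NP {S : List (Fin 4 → Fin 4 → ℤ)} {J : List (Fin 4)} (hclo : clo S J = true)
    {L : List ((Fin 4 → ℤ) × List (Fin 4) × (Fin 4 → ℤ) × Fin 4)} (ht : tab S J L = true) {c : Additive (E →* ℂˣ)}
    (hc0 : c ≠ 0) (hc : (3 : ℤ) • c = 0) {t : (Fin 4 → ℤ) × List (Fin 4) × (Fin 4 → ℤ) × Fin 4} (htL : t ∈ L)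
    {l : T →* ℂˣ} (hl : co hh l = fun i => t.1 i • c) : ¬ NP cs hN {i | i ∈ J} l := by
  intro hn
  unfold tab at ht
  rw [List.all_eq_true] at ht
  have h1 := ht t htL
  simp only [Bool.and_eq_true] at h1
  obtain ⟨-, hω, hν, hj, hS⟩ := h1
  rw [List.all_eq_true] at hω hS
  rw [List.any_eq_true] at hj
  rw [dv3_iff] at hν
  have hω' : ∀ j ∈ t.2.1, j ∈ J := by
    intro j hj
    have h1 := hω j hj
    rw [List.any_eq_true] at h1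
    obtain ⟨k, hk, e⟩ := h1
    rw [beq_iff_eq] at e
    exact e ▸ hk
  obtain ⟨k, hk, e⟩ := hj
  rw [beq_iff_eq] at e
  subst e
  have e2 : actw AF t.2.1 (co hh l) = fun i => t.2.2.1 i • c := by
    rw [hl, actw_smul]
    funext i
    exact zsmul_eq_of_dvd hc (hν i)
  obtain ⟨m, hm, hm1, hm2⟩ := st_of_NP C h hclo hn t.2.1 hω' hk
  rw [e2, app_smul, ap_eq] at hm1
  have h3 := hS m hm
  rw [Bool.or_eq_true, Bool.not_eq_true', eqV_iff] at h3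
  rcases h3 with h3 | h3
  · have h4 : (dv3 fun i => ap m t.2.2.1 i - t.2.2.1 i) = true := by
      rw [dv3_iff]
      intro i
      exact dvd_of_zsmul_eq hc0 hc (congrFun hm1 i)
    rw [h3] at h4
    exact Bool.noConfusion h4
  · exact hm2 h3

/-- the order three case in one orbit -/
theorem not_NP_orb {S : List (Fin 4 → Fin 4 → ℤ)} {J : List (Fin 4)} (hclo : clo S J = true)
    {L : List ((Fin 4 → ℤ) × List (Fin 4) × (Fin 4 → ℤ) × Fin 4)} (ht : tab S J L = true) {c : Additive (E →* ℂˣ)}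
    (hc0 : c ≠ 0) (hc : (3 : ℤ) • c = 0) {μ : Fin 4 → ℤ} (hμ : μ ∈ L.map Prod.fst) {w : W} {l l' : T →* ℂˣ}
    (hl : co hh l = fun i => μ i • c) (hm : Mv cs hN w l l') : ¬ NP cs hN {i | i ∈ J} l' := by
  have hO : ∀ μ ∈ L.map Prod.fst, ∀ j, ∃ ν ∈ L.map Prod.fst, ∀ i, act AF j μ i • c = ν i • c := by
    intro μ hμ j
    obtain ⟨t, htL, rfl⟩ := List.mem_map.1 hμ
    unfold tab at ht
    rw [List.all_eq_true] at ht
    have h1 := ht t htL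
    simp only [Bool.and_eq_true] at h1
    have h2 := h1.1
    rw [List.all_eq_true] at h2
    have h3 := h2 j (mem_I4 j)
    rw [List.any_eq_true] at h3
    obtain ⟨t', ht', h4⟩ := h3
    rw [dv3_iff] at h4
    exact ⟨t'.1, List.mem_map_of_mem ht', fun i => zsmul_eq_of_dvd (G := Additive (E →* ℂˣ)) hc (h4 i)⟩
  obtain ⟨ν, hν, e⟩ := exists_orb (h := h) C (L.map Prod.fst) hO w hμ hl hm
  obtain ⟨t, htL, rfl⟩ := List.mem_map.1 hν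
  exact not_NP C h hclo ht hc0 hc htL e

/-- **the `T`-characters**: one orbit contains a character seen by `{0, 1, 3}` and one seen by `{0, 2, 3}` -/
theorem eq_one_or {l₁ l₂ : T →* ℂˣ} (h₁ : NP cs hN {0, 1, 3} l₁) (h₂ : NP cs hN {0, 2, 3} l₂) {w : W}
    (hw : Mv cs hN w l₁ l₂) : l₁ = 1 ∨ (∃ c : E →* ℂˣ, c ≠ 1 ∧ c ^ 3 = 1) ∧ ∀ v l₃, Mv cs hN v l₁ l₃ →
      ¬ NP cs hN {0, 1, 2} l₃ ∧ ¬ NP cs hN {1, 2, 3} l₃ := by
  obtain ⟨a0, a1, a3⟩ := triv_A C h h₁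
  obtain ⟨b0, b2, b3⟩ := triv_B C h h₂
  by_cases hc0 : co hh l₁ 2 = 0
  · left
    refine eq_one_of_co C fun i => ?_
    fin_cases i
    · exact a0
    · exact a1
    · exact hc0
    · exact a3
  right
  have e1 : co hh l₁ = fun i => (![0, 0, 1, 0] : Fin 4 → ℤ) i • co hh l₁ 2 := by
    funext i
    fin_cases i
    · simpa only [_root_.Fin.zero_eta, _root_.Fin.isValue, _root_.Matrix.cons_val_zero, _root_.zero_zsmul] using a0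
    · simpa only [_root_.Fin.mk_one, _root_.Fin.isValue, _root_.Matrix.cons_val_one, _root_.Matrix.cons_val_zero, _root_.zero_zsmul] using a1
    · simp only [_root_.Fin.reduceFinMk, _root_.Fin.isValue, _root_.Matrix.cons_val, _root_.one_zsmul]
    · simpa only [_root_.Fin.reduceFinMk, _root_.Fin.isValue, _root_.Matrix.cons_val, _root_.zero_zsmul] using a3
  have hO : ∀ μ ∈ OO, ∀ j, ∃ ν ∈ OO, ∀ i, act AF j μ i • co hh l₁ 2 = ν i • co hh l₁ 2 := by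
    intro μ hμ j
    have h1 := OO_clo
    rw [List.all_eq_true] at h1
    have h2 := h1 μ hμ
    rw [List.all_eq_true] at h2
    have h3 := h2 j (mem_I4 j)
    rw [List.any_eq_true] at h3
    obtain ⟨ν, hν, e⟩ := h3
    rw [eqV_iff] at e
    exact ⟨ν, hν, fun i => by rw [e]⟩
  obtain ⟨ν, hν, e2⟩ := exists_orb (h := h) C OO hO w (List.mem_cons_self ..) e1 hw
  have hc : (3 : ℤ) • co hh l₁ 2 = 0 := by
    have h1 := OO_cert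
    rw [List.all_eq_true] at h1
    have h2 := h1 ν hν
    rw [List.any_eq_true] at h2
    obtain ⟨t, -, e⟩ := h2
    rw [beq_iff_eq] at e
    exact three_of (G := Additive (E →* ℂˣ)) e ((congrFun e2 0).symm.trans b0) ((congrFun e2 2).symm.trans b2) ((congrFun e2 3).symm.trans b3)
  refine ⟨⟨(co hh l₁ 2).toMul, fun h1 => hc0 (Additive.toMul.injective h1), ?_⟩, fun v l₃ hv => ⟨fun hn => ?_, fun hn => ?_⟩⟩
  · have h1 := congrArg Additive.toMul hc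
    rw [toMul_zsmul] at h1
    exact h1
  · have e : ({0, 1, 2} : Set (Fin 4)) = {i | i ∈ ([0, 1, 2] : List (Fin 4))} := by
      ext i
      simp
    rw [e] at hn
    exact not_NP_orb C h clo_SC tab_C hc0 hc (List.mem_cons_self ..) e1 hv hn
  · have e : ({1, 2, 3} : Set (Fin 4)) = {i | i ∈ ([1, 2, 3] : List (Fin 4))} := by
      ext i
      simp
    rw [e] at hn
    exact not_NP_orb C h clo_SD tab_D hc0 hc (List.mem_cons_self ..) e1 hv hn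

end Char

/-! ### the characters of the group -/

section Grp

universe u v

variable {W : Type*} {Y : Type u} [Group W] [Group Y] {M : CoxeterMatrix (Fin 4)}
  {cs : CoxeterSystem M W} {A : Fin 4 → Fin 4 → ℤ} {h : IsCartan M A} {p : ℕ} {T : Subgroup Y} {n : Fin 4 → Y}
  {X : (Fin 4 → ℤ) → Subgroup Y} (R : RGD cs h p T n X) [Finite W] [Finite Y] {V : Type v} [AddCommGroup V] [Module ℂ V]
  {ρ : Representation ℂ Y V} [FiniteDimensional ℂ V] {E : Type*} [CommGroup E] {hh : Fin 4 → E →* T}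

include R

/-- **only the trivial character in `V^U`** -/
theorem eq_one (hA : A = AF) (C : TCo A T n hh) (hG : GG cs h T X = ⊤) (hT : ∀ s ∈ T, ∀ t ∈ T, s * t = t * s)
    (hρ : ρ.IsIrreducible) (h0 : VU cs h X ρ ≠ ⊥) {t₁ t₂ : Y}
    (ht₁ : Ell cs h T X {0, 1, 3} t₁) (hχ₁ : ρ.character t₁ ≠ 0)
    (ht₂ : Ell cs h T X {0, 2, 3} t₂) (hχ₂ : ρ.character t₂ ≠ 0)
    (h3 : (∃ c : E →* ℂˣ, c ≠ 1 ∧ c ^ 3 = 1) → (∃ t, Ell cs h T X {0, 1, 2} t ∧ ρ.character t ≠ 0) ∨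
      ∃ t, Ell cs h T X {1, 2, 3} t ∧ ρ.character t ≠ 0) :
    VU cs h X ρ = Vl cs h T X ρ 1 ∧ ∀ l : T →* ℂˣ, Vl cs h T X ρ l ≠ ⊥ → l = 1 := by
  subst hA
  obtain ⟨l₁, hl₁, hn₁⟩ := exists_fix_J R hG hT hρ h0 ht₁ hχ₁
  obtain ⟨l₂, hl₂, hn₂⟩ := exists_fix_J R hG hT hρ h0 ht₂ hχ₂
  obtain ⟨w, hw⟩ := exists_mv R hG hρ hl₁ hl₂
  have key : l₁ = 1 := by
    rcases eq_one_or C h hn₁ hn₂ hw with h1 | ⟨hc, h1⟩
    · exact h1
    exfalso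
    rcases h3 hc with ⟨t, ht, hχ⟩ | ⟨t, ht, hχ⟩
    · obtain ⟨l, hl, hn⟩ := exists_fix_J R hG hT hρ h0 ht hχ
      obtain ⟨v, hv⟩ := exists_mv R hG hρ hl₁ hl
      exact (h1 v l hv).1 hn
    · obtain ⟨l, hl, hn⟩ := exists_fix_J R hG hT hρ h0 ht hχ
      obtain ⟨v, hv⟩ := exists_mv R hG hρ hl₁ hl
      exact (h1 v l hv).2 hn
  have hall : ∀ l : T →* ℂˣ, Vl cs h T X ρ l ≠ ⊥ → l = 1 := by
    intro l hl
    obtain ⟨v, hv⟩ := exists_mv R hG hρ hl₁ hl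
    subst key
    refine hv.unique fun g _ s t _ => ?_
    rw [MonoidHom.one_apply, MonoidHom.one_apply]
  exact ⟨VU_eq_of_forall R hT hall, hall⟩

end Grp

end Cfsg.Agent.H650.OZ.FF
end

-- part: H650/OZ/F4Inst
section
/-!
# S4842, row F4: the `T`-characters of `chevF4.group K` (helper650)

* `tco` : coordinates of the torus of `D.group K`, every tabulated `D`, `K` a finite field;
* `VB_F4` : `V^U = V^B ≠ 0` if `χ` does not vanish at an elliptic element of `L_{013}`, at one of `L_{023}` and, if `|K| ≡ 1 mod 3`,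
  at one of `L_{012}` or of `L_{123}`.
-/

set_option autoImplicit false
set_option linter.unusedSectionVars false

open Cfsg

namespace Cfsg.Agent.H650.OZ.FF

open CoxeterSystem Cfsg.Agent.ChevalleyStructure.CoxeterGeom Cfsg.Agent.Tits.Roots Cfsg.Agent.Tits.Core
  Cfsg.Agent.Tits.Exchange Cfsg.Agent.Nodes.Reps Cfsg.Agent.Nodes.BNOf Cfsg.Agent.Nodes.StabComb
  Cfsg.Agent.Nodes.Bruhat Cfsg.Agent.Nodes.OppDec Cfsg.Agent.Nodes.LeviDec Module Cfsg.Agent.H985.VZ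
open Cfsg.Lie Cfsg.Lie.ChevalleyDatum
open Cfsg.Agent.ChevalleyStructure Cfsg.Agent.ChevalleyStructure.Elts
  Cfsg.Agent.ChevalleyStructure.CoxeterGeomTypes Cfsg.Agent.ChevalleyStructure.NPerm
open Cfsg.Agent.Nodes Cfsg.Agent.Nodes.RGDChev
open Cfsg.Agent.KFacts.RgdField Cfsg.Agent.KFacts.RgdChevCoord Cfsg.Agent.BpExc.TorCent Cfsg.Agent.BpExc.TorChev
open Cfsg.Agent.H129.TorusChar Cfsg.Agent.H631.VZ

universe u v

section Tor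

variable {D : ChevalleyDatum} {l : ℕ} {M : CoxeterMatrix (Fin l)} (hp : IsType D l M) {K : Type u} [Field K]

theorem pairing_sr_eq (A : Fin l → Fin l → ℤ) (i j : Fin l) : pairing A i (sr j) = A i j := by
  unfold pairing
  rw [Finset.sum_eq_single j (fun k _ hk => by rw [sr_ne hk, mul_zero]) (by simp only [_root_.Finset.mem_univ, _root_.not_true_eq_false, _root_.mul_eq_zero, _root_.IsEmpty.forall_iff]), sr_self, mul_one]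

/-- **the coordinates of the torus** -/
theorem tco [Finite K] (p : ℕ) [Fact p.Prime] [CharP K p] : TCo (cartanOf D l) (TT D K) (nc hp K) (hh hp) where
  gen := by
    rw [eq_top_iff]
    intro t _
    have key : TT D K ≤ Subgroup.closure {g | ∃ (j : Fin l) (c : K), c ≠ 0 ∧ g = hc hp j c} := TT_le hp
    have h1 : Subgroup.closure {g | ∃ (j : Fin l) (c : K), c ≠ 0 ∧ g = hc hp j c} ≤
        (⨆ i, (hh (K := K) hp i).range).map (TT D K).subtype := by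
      rw [Subgroup.closure_le]
      rintro _ ⟨j, c, hc0, rfl⟩
      exact ⟨hh hp j (Units.mk0 c hc0), Subgroup.mem_iSup_of_mem j ⟨_, rfl⟩, rfl⟩
    obtain ⟨s, hs, e⟩ := h1 (key t.2)
    have h4 : s = t := Subtype.ext e
    rwa [← h4]
  conj i j x := by
    have R := rgd (K := K) hp M.toCoxeterSystem p
    have hg : Rp M.toCoxeterSystem R.nsys (M.toCoxeterSystem.simple j) (nc hp K j) :=
      rp_simple M.toCoxeterSystem R.nsys j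
    have ht' : nc hp K j * ((hh hp i x : TT D K) : ↥(D.group K)) * (nc hp K j)⁻¹ ∈ TT D K :=
      (Subgroup.mem_normalizer_iff.1 hg.mem_normalizer _).1 (Subtype.mem _)
    refine cX_inj hp ht' (Subtype.mem _) fun k => ?_
    have hk : (sr k : Fin l → ℤ) = rep M.toCoxeterSystem hp.isCartan (M.toCoxeterSystem.simple j)
        (rep M.toCoxeterSystem hp.isCartan (M.toCoxeterSystem.simple j) (sr k)) := by
      rw [← rep_mul_apply, simple_mul_simple_self, map_one, Module.End.one_apply]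
    conv_lhs => rw [hk, cX_rp hp M.toCoxeterSystem (fun _ _ => ⟨⊤, inferInstance, Set.subset_univ _⟩) p hg
      (Subtype.mem _)]
    rw [Subgroup.coe_mul, cX_mul hp (Subtype.mem _) (Subtype.mem _), Subgroup.coe_zpow, cX_zpow hp (Subtype.mem _),
      cX_hh, cX_hh, cX_hh, ← zpow_mul, ← zpow_add₀ x.ne_zero]
    congr 1
    rw [rep_simple_eq, sub_eq_add_neg, ← neg_smul, pairing_add, pairing_smul, pairing_sr_eq, pairing_sr_eq,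
      pairing_sr_eq]
    ring

end Tor

set_option backward.isDefEq.respectTransparency false in
theorem cartan_F4 : cartanOf chevF4 4 = AF := by
  have h1 : ∀ i j, cartanOf chevF4 4 i j = AF i j := by decide +kernel
  funext i j
  exact h1 i j

section F4

variable {K : Type u} [Field K] [Finite K] (p : ℕ) [Fact p.Prime] [CharP K p] {W : Type*} [Group W]
  (cs : CoxeterSystem CoxeterMatrix.F₄ W) (hp : IsType chevF4 4 CoxeterMatrix.F₄) {V : Type v} [AddCommGroup V]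
  [Module ℂ V] [FiniteDimensional ℂ V] {ρ : Representation ℂ ↥(chevF4.group K) V}

include p in
/-- **`V^U = V^B ≠ 0`** -/
theorem VB_F4 (hρ : ρ.IsIrreducible) {t₁ t₂ : ↥(chevF4.group K)}
    (ht₁ : Ell cs hp.isCartan (TT chevF4 K) (XX chevF4 4 K) {0, 1, 3} t₁) (hχ₁ : ρ.character t₁ ≠ 0)
    (ht₂ : Ell cs hp.isCartan (TT chevF4 K) (XX chevF4 4 K) {0, 2, 3} t₂) (hχ₂ : ρ.character t₂ ≠ 0)
    (h3 : Nat.card K % 3 = 1 →
      (∃ t, Ell cs hp.isCartan (TT chevF4 K) (XX chevF4 4 K) {0, 1, 2} t ∧ ρ.character t ≠ 0) ∨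
        ∃ t, Ell cs hp.isCartan (TT chevF4 K) (XX chevF4 4 K) {1, 2, 3} t ∧ ρ.character t ≠ 0) :
    VU cs hp.isCartan (XX chevF4 4 K) ρ ≠ ⊥ ∧
      VU cs hp.isCartan (XX chevF4 4 K) ρ = fx ρ (RGD.B cs hp.isCartan (TT chevF4 K) (XX chevF4 4 K)) ∧
      ∀ l : TT chevF4 K →* ℂˣ, Vl cs hp.isCartan (TT chevF4 K) (XX chevF4 4 K) ρ l ≠ ⊥ → l = 1 := by
  classical
  have := Fintype.ofFinite K
  have := finite_W hp cs
  have R := rgd (K := K) hp cs p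
  have hG : GG cs hp.isCartan (TT chevF4 K) (XX chevF4 4 K) = ⊤ :=
    Cfsg.Agent.KFacts.RgdRigid.GG_eq_top (T := TT chevF4 K) (G1_eq_top hp cs)
  have hT : ∀ s ∈ TT chevF4 K, ∀ t ∈ TT chevF4 K, s * t = t * s := fun s hs t ht =>
    cX_inj hp (mul_mem hs ht) (mul_mem ht hs) fun i => by rw [cX_mul hp hs ht, cX_mul hp ht hs, mul_comm]
  have h0 : VU cs hp.isCartan (XX chevF4 4 K) ρ ≠ ⊥ := VU_F4 R hG hρ ht₁ hχ₁ ht₂ hχ₂
  have h1 := eq_one R cartan_F4 (tco hp p) hG hT hρ h0 ht₁ hχ₁ ht₂ hχ₂ fun hc => by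
    refine h3 ?_
    by_contra hcon
    refine not_exists_three ?_ hc
    have h4 : Nat.card K ≠ 0 := Nat.card_pos.ne'
    have h5 : Nat.card Kˣ = Nat.card K - 1 := Nat.card_units K
    rw [h5, Nat.coprime_comm, Nat.Prime.coprime_iff_not_dvd Nat.prime_three]
    omega
  exact ⟨h0, h1.1.trans (Vl_one R), h1.2⟩

end F4

end Cfsg.Agent.H650.OZ.FF
end

-- part: H798/OZ/EllFun
section
/-!
# Elliptic elements from functionals modulo `N` (helper798, S4842)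

* `exists_ell_fun` : `G : ℤ^l → ℤ` with `G (w x) ≡ q G x mod N`, `N ∤ G a` for all roots `a` : an element `s` of
  `D.group F`, `|F| = q`, with `Ell J s`, and `s ^ m = 1` iff `N ∣ m G (α_i)` for all `i`.
-/

set_option autoImplicit false
set_option linter.unusedSectionVars false
set_option maxHeartbeats 400000

namespace Cfsg.Agent.H798.OZ

open CoxeterSystem Subgroup Cfsg Cfsg.Lie Cfsg.Lie.ChevalleyDatum
open Cfsg.Agent.ChevalleyStructure Cfsg.Agent.ChevalleyStructure.Elts Cfsg.Agent.ChevalleyStructure.CoxeterGeom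
  Cfsg.Agent.ChevalleyStructure.CoxeterGeomTypes Cfsg.Agent.ChevalleyStructure.NPerm
open Cfsg.Agent.Tits.Roots Cfsg.Agent.Tits.Core Cfsg.Agent.Nodes Cfsg.Agent.Nodes.Reps Cfsg.Agent.Nodes.BNOf
  Cfsg.Agent.Nodes.RGDChev Cfsg.Agent.Nodes.Bruhat Cfsg.Agent.Nodes.StabComb Cfsg.Agent.Nodes.LeviDec
open Cfsg.Agent.KFacts.RgdField Cfsg.Agent.KFacts.RgdChevCoord
open Cfsg.Agent.BpExc Cfsg.Agent.BpExc.TorCent Cfsg.Agent.BpExc.TorChev Cfsg.Agent.BpExc.Tow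
open Cfsg.Agent.GpExc.Field Cfsg.Agent.BpExc.TowChev Cfsg.Agent.BpExc.Fr Cfsg.Agent.BpExc.LangFr
open Cfsg.Agent.H129.TorusChar Cfsg.Agent.H129.TorusMain Cfsg.Agent.H129.TorusUntw
open Cfsg.Agent.H985.VZ (Ell Free)

universe u v

/-- additive functions -/
theorem hom_eq {l : ℕ} (g : (Fin l → ℤ) →+ ℤ) (x : Fin l → ℤ) : g x = ∑ i, x i * g (sr i) := by
  conv_lhs => rw [IsMC.eq_sum_sr x]
  rw [map_sum]
  exact Finset.sum_congr rfl fun i _ => by rw [map_zsmul, smul_eq_mul]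

theorem dvd_of_sr {l : ℕ} {N : ℤ} (g : (Fin l → ℤ) →+ ℤ) (h : ∀ i, N ∣ g (sr i)) (x : Fin l → ℤ) : N ∣ g x := by
  rw [hom_eq g x]
  exact Finset.dvd_sum fun i _ => (h i).mul_left _

variable {D : ChevalleyDatum} {l : ℕ} {M : CoxeterMatrix (Fin l)} (hp : IsType D l M)
  {W : Type v} [Group W] [Finite W] (cs : CoxeterSystem M W)

theorem exists_ell_fun {F : Type u} [Field F] [Fintype F] {q : ℕ} (hq : Fintype.card F = q)
    (hZ : Subgroup.center ↥(D.group (AlgebraicClosure F)) = ⊥) {d : ℕ} {B : Fin l → Fin l → ℤ} (hB : InvC D l d B)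
    (hd : d ≠ 0) {N : ℕ} (hNd : N.Coprime d) (hqN : q.Coprime N) {J : Set (Fin l)} {w : W} (hwJ : w ∈ WJ cs J)
    (G : (Fin l → ℤ) →+ ℤ) (hw : ∀ i, (N : ℤ) ∣ G (rep cs hp.isCartan w (sr i)) - q * G (sr i))
    (hreg : ∀ r < D.nroots, ¬ (N : ℤ) ∣ G (vec D l r))
    (hell : ∀ g : (Fin l → ℤ) →+ ℤ, (∀ x, g (rep cs hp.isCartan w x) = g x) → ∀ j ∈ J, g (sr j) = 0) :
    ∃ s : ↥(D.group F), Ell cs hp.isCartan (TT D F) (XX D l F) J s ∧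
      ∀ m : ℕ, s ^ m = 1 ↔ ∀ i, (N : ℤ) ∣ m * G (sr i) := by
  obtain ⟨p, e, hpF, hpc, hpk, he, rfl, hk⟩ := exists_closure hq
  set k := AlgebraicClosure F with hkdef
  have hpN : ¬ p ∣ N := fun h1 => by
    have h2 : p ∣ Nat.gcd (p ^ e) N := Nat.dvd_gcd (dvd_pow_self p he.ne') h1
    rw [hqN] at h2
    exact hpF.out.one_lt.ne' (Nat.dvd_one.1 h2)
  have hNk : (N : k) ≠ 0 := by
    rw [Ne, CharP.cast_eq_zero_iff k p]
    exact hpN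
  have : NeZero ((N : ℕ) : k) := ⟨hNk⟩
  obtain ⟨ζ, hζ⟩ := HasEnoughRootsOfUnity.exists_primitiveRoot k N
  have hN0 : N ≠ 0 := fun h => hNk (by rw [h, Nat.cast_zero])
  have hζ0 : ζ ≠ 0 := hζ.ne_zero hN0
  have hMC : IsMC (fun x : Fin l → ℤ => ζ ^ G x) :=
    ⟨by show ζ ^ G 0 = 1; rw [map_zero, zpow_zero], fun x y => by
      show ζ ^ G (x + y) = ζ ^ G x * ζ ^ G y
      rw [map_add, zpow_add₀ hζ0]⟩
  obtain ⟨t, ht, hcX⟩ := exists_cX hp hB hd hMC (fun _ => IsAlgClosed.exists_pow_nat_eq _ (Nat.pos_of_ne_zero hd))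
  have hone : ∀ g : ℤ, ζ ^ g = 1 ↔ (N : ℤ) ∣ g := fun g => hζ.zpow_eq_one_iff_dvd g
  have hpow : ∀ m : ℕ, t ^ m = 1 ↔ ∀ i, (N : ℤ) ∣ m * G (sr i) := by
    intro m
    have h1 : ∀ i, cX hp (t ^ m) (sr i) = ζ ^ ((m : ℤ) * G (sr i)) := by
      intro i
      rw [cX_pow hp ht, hcX, ← zpow_natCast, ← zpow_mul, mul_comm]
    constructor
    · intro h i
      rw [← hone, ← h1, h, cX_one]
    · intro h
      refine cX_inj hp (pow_mem ht m) (one_mem _) fun i => ?_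
      rw [h1, cX_one, hone]
      exact h i
  have hw' : ∀ x, (N : ℤ) ∣ G (rep cs hp.isCartan w x) - ((p ^ e : ℕ) : ℤ) * G x := by
    let G' : (Fin l → ℤ) →+ ℤ := G.comp (rep cs hp.isCartan w).toAddMonoidHom - ((p ^ e : ℕ) : ℤ) • G
    have h1 : ∀ x, G' x = G (rep cs hp.isCartan w x) - ((p ^ e : ℕ) : ℤ) * G x := fun x => rfl
    intro x
    rw [← h1]
    refine dvd_of_sr G' (fun i => ?_) x
    rw [h1]
    exact hw i
  obtain ⟨s, z, hs, hE⟩ := exists_ell hp cs hk (p := p) (algebraMap F k) he hq hZ hB hd hNd ht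
    ((hpow N).2 fun i => Dvd.intro _ rfl) hwJ (fun x => by
      rw [hcX, hcX, ← zpow_natCast, ← zpow_mul]
      have h1 : ζ ^ (G (rep cs hp.isCartan w x) - ((p ^ e : ℕ) : ℤ) * G x) = 1 := (hone _).2 (hw' x)
      rw [zpow_sub₀ hζ0, div_eq_one_iff_eq (zpow_ne_zero _ hζ0)] at h1
      rw [h1, mul_comm]) (fun a ha => by
      obtain ⟨r, hr, rfl⟩ := (isRoot_iff hp cs a).1 ha
      rw [hcX, Ne, hone]
      exact hreg r hr) hell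
  refine ⟨s, hE, fun m => ?_⟩
  rw [← hpow m]
  have h1 : s ^ m = 1 ↔ emb hp.inList (algebraMap F k) (s ^ m) = 1 := by
    constructor
    · intro h; rw [h, map_one]
    · intro h; exact emb_injective hp.inList (algebraMap F k) (by rw [h, map_one])
  rw [h1, map_pow, hs, conj_pow, mul_inv_eq_one, mul_eq_left]

/-- powers distinguish classes -/
theorem not_isConj {Y : Type*} [Group Y] {s t : Y} {m : ℕ} (h1 : s ^ m = 1) (h2 : t ^ m ≠ 1) : ¬ IsConj s t := by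
  intro h
  obtain ⟨g, rfl⟩ := isConj_iff.1 h
  apply h2
  rw [conj_pow, h1, mul_one, mul_inv_cancel]

end Cfsg.Agent.H798.OZ
end

private theorem dce_11915c29ad78 : _root_.True := by
  try have : _root_.True := by simp only [_root_.Cfsg.Agent.H650.OZ.FF.ap.eq_1]
  try have : _root_.True := by simp only [_root_.Cfsg.Agent.H650.OZ.FF.AI.eq_1]
  try have : _root_.True := by simp only [_root_.Cfsg.Agent.H650.OZ.FF.AF.eq_1]
  try have : _root_.True := by simp only [_root_.Cfsg.Agent.H650.OZ.idM.eq_1]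
  try have : _root_.True := by simp only [_root_.Cfsg.Agent.H650.OZ.act.eq_1]
  try have : _root_.True := by simp only [_root_.Cfsg.Agent.H650.OZ.FF.DB2.eq_1]
  try have : _root_.True := by simp only [_root_.Cfsg.Agent.H650.OZ.FF.DA0.eq_1]
  try have : _root_.True := by simp only [_root_.Cfsg.Agent.H650.OZ.FF.row.eq_1]
  try have : _root_.True := by simp only [_root_.Cfsg.Agent.H650.OZ.FF.DB3.eq_1]
  try have : _root_.True := by simp only [_root_.Cfsg.Agent.H650.OZ.FF.I4.eq_1]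
  try have : _root_.True := by simp only [_root_.Cfsg.Agent.H650.OZ.FF.DA1.eq_1]
  try have : _root_.True := by simp only [_root_.Cfsg.Agent.H650.OZ.app.eq_1]
  exact _root_.True.intro
end

-- part: H320/OZ/F4In
section
prune_inst 0x100001001422000000000000020000002000000000000000600000000002520000420000000008000004800000040000000000000000000000000000000100208000520002000104460001001002000000000000000000000000000000041000000000000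
set_option linter.all false
open scoped Cfsg.Agent.FastGrp

-- part: H798/OZ/F4Ell
section
/-!
# Elliptic elements of the Levi subgroups of `F₄(q)` (helper798, S4842)

Nodes `0, 1` short, `2, 3` long.

* `elts_013`, `elts_023` : two non conjugate elements `Ell {0, 1, 3}`, `Ell {0, 2, 3}`, `q ≥ 3`; `elt_013`, `elt_023` :
  one for all `q ≥ 2`;
* `elts_BC` : non conjugate elements `Ell {1, 2, 3}`, `Ell {0, 1, 2}`, `q ≥ 6` or `q = 4`.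
-/

set_option autoImplicit false
set_option linter.unusedSectionVars false
set_option maxHeartbeats 400000

namespace Cfsg.Agent.H798.OZ

open CoxeterSystem Subgroup Cfsg Cfsg.Lie Cfsg.Lie.ChevalleyDatum
open Cfsg.Agent.ChevalleyStructure Cfsg.Agent.ChevalleyStructure.Elts Cfsg.Agent.ChevalleyStructure.CoxeterGeom
  Cfsg.Agent.ChevalleyStructure.CoxeterGeomTypes Cfsg.Agent.ChevalleyStructure.NPerm
open Cfsg.Agent.Tits.Roots Cfsg.Agent.Tits.Core Cfsg.Agent.Nodes Cfsg.Agent.Nodes.Reps Cfsg.Agent.Nodes.BNOf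
  Cfsg.Agent.Nodes.RGDChev Cfsg.Agent.Nodes.Bruhat Cfsg.Agent.Nodes.StabComb Cfsg.Agent.Nodes.LeviDec
open Cfsg.Agent.KFacts.RgdChevCoord Cfsg.Agent.GenExc.Chev
open Cfsg.Agent.H129.TorusChar Cfsg.Agent.H557.LrData Cfsg.Agent.H557.LrRho
open Cfsg.Agent.H985.VZ (Ell Free)

universe u v

/-- the functional with the values `c i` on the simple roots -/
def fn {l : ℕ} (c : Fin l → ℤ) : (Fin l → ℤ) →+ ℤ where
  toFun x := ∑ i, x i * c i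
  map_zero' := by simp only [_root_.Pi.zero_apply, _root_.MulZeroClass.zero_mul, _root_.Finset.sum_const_zero]
  map_add' x y := by rw [← Finset.sum_add_distrib]; exact Finset.sum_congr rfl fun i _ => by rw [Pi.add_apply, add_mul]

theorem fn_sr {l : ℕ} (c : Fin l → ℤ) (i : Fin l) : fn c (sr i) = c i := by
  show ∑ j, (sr i : Fin l → ℤ) j * c j = c i
  rw [Finset.sum_eq_single i]
  · rw [sr_self, one_mul]
  · intro j _ hj; rw [sr_ne hj, zero_mul]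
  · intro h; exact absurd (Finset.mem_univ _) h

theorem fn_apply {l : ℕ} (c : Fin l → ℤ) (x : Fin l → ℤ) : fn c x = ∑ i, x i * c i := rfl

/-! ### polynomials -/

theorem quad_ne {q A0 A1 A2 C : ℤ} (hC : 0 < C) (hq : C < q) (h0 : |A0| ≤ C) (h1 : |A1| ≤ C) (_h2 : |A2| ≤ C)
    (hne : A0 ≠ 0 ∨ A1 ≠ 0 ∨ A2 ≠ 0) : A0 + A1 * q + A2 * q ^ 2 ≠ 0 := by
  intro h
  have hq0 : q ≠ 0 := by omega
  have e0 : A0 = 0 := by
    refine Int.eq_zero_of_abs_lt_dvd (m := q) ⟨-(A1 + A2 * q), ?_⟩ (lt_of_le_of_lt h0 hq)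
    linear_combination h
  have e1 : A1 + A2 * q = 0 := by
    have : q * (A1 + A2 * q) = 0 := by rw [e0] at h; linear_combination h
    exact (mul_eq_zero.1 this).resolve_left hq0
  have e2 : A1 = 0 := by
    refine Int.eq_zero_of_abs_lt_dvd (m := q) ⟨-A2, ?_⟩ (lt_of_le_of_lt h1 hq)
    linear_combination e1
  have e3 : A2 = 0 := by
    have : q * A2 = 0 := by rw [e2] at e1; linear_combination e1
    exact (mul_eq_zero.1 this).resolve_left hq0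
  rcases hne with h | h | h
  · exact h e0
  · exact h e2
  · exact h e3

theorem cub_ne {q A0 A1 A2 A3 C : ℤ} (hC : 0 < C) (hq : C < q) (h0 : |A0| ≤ C) (h1 : |A1| ≤ C) (h2 : |A2| ≤ C)
    (h3 : |A3| ≤ C) (hne : A0 ≠ 0 ∨ A1 ≠ 0 ∨ A2 ≠ 0 ∨ A3 ≠ 0) : A0 + A1 * q + A2 * q ^ 2 + A3 * q ^ 3 ≠ 0 := by
  intro h
  have hq0 : q ≠ 0 := by omega
  have e0 : A0 = 0 := by
    refine Int.eq_zero_of_abs_lt_dvd (m := q) ⟨-(A1 + A2 * q + A3 * q ^ 2), ?_⟩ (lt_of_le_of_lt h0 hq)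
    linear_combination h
  have e1 : A1 + A2 * q + A3 * q ^ 2 = 0 := by
    have : q * (A1 + A2 * q + A3 * q ^ 2) = 0 := by rw [e0] at h; linear_combination h
    exact (mul_eq_zero.1 this).resolve_left hq0
  refine quad_ne hC hq h1 h2 h3 ?_ e1
  rcases hne with h | h
  · exact absurd e0 h
  · exact h

theorem quad_not_dvd {q A0 A1 A2 C : ℤ} (hC : 0 < C) (hq : C < q) (h0 : |A0| ≤ C) (h1 : |A1| ≤ C) (h2 : |A2| ≤ C)
    (hne : A0 ≠ 0 ∨ A1 ≠ 0 ∨ A2 ≠ 0) : ¬ (q ^ 2 + q + 1) * (q + 1) ∣ A0 + A1 * q + A2 * q ^ 2 := by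
  intro h
  refine quad_ne hC hq h0 h1 h2 hne (Int.eq_zero_of_abs_lt_dvd h ?_)
  rw [abs_le] at h0 h1 h2
  rw [abs_lt]
  constructor <;> linarith only [hC, hq, h0, mul_nonneg (by linarith : 0 ≤ C - A1) (by linarith : 0 ≤ q), mul_nonneg (by linarith : 0 ≤ C - A2) (sq_nonneg q), mul_nonneg (by linarith : 0 ≤ C + A1) (by linarith : 0 ≤ q), mul_nonneg (by linarith : 0 ≤ C + A2) (sq_nonneg q), sq_nonneg q, mul_nonneg (by linarith : 0 ≤ q - C) (by linarith only [hC, hq, sq_nonneg q] : 0 ≤ q ^ 2 + q + 1)]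

theorem cub_not_dvd {q A0 A1 A2 A3 C : ℤ} (hC : 0 < C) (hq : C + 1 < q) (h0 : |A0| ≤ C) (h1 : |A1| ≤ C)
    (h2 : |A2| ≤ C) (h3 : |A3| ≤ C) (hne : A0 ≠ 0 ∨ A1 ≠ 0 ∨ A2 ≠ 0 ∨ A3 ≠ 0) :
    ¬ (q ^ 3 + 1) * (q - 1) ∣ A0 + A1 * q + A2 * q ^ 2 + A3 * q ^ 3 := by
  intro h
  refine cub_ne hC (by linarith) h0 h1 h2 h3 hne (Int.eq_zero_of_abs_lt_dvd h ?_)
  rw [abs_le] at h0 h1 h2 h3
  have hq0 : 0 ≤ q := by linarith
  have e3 : 0 ≤ q ^ 3 := pow_nonneg hq0 3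
  have e2 : 0 ≤ q ^ 2 := pow_nonneg hq0 2
  have f1 := mul_nonneg (by linarith : 0 ≤ C - A1) hq0
  have f2 := mul_nonneg (by linarith : 0 ≤ C - A2) e2
  have f3 := mul_nonneg (by linarith : 0 ≤ C - A3) e3
  have g1 := mul_nonneg (by linarith : 0 ≤ C + A1) hq0
  have g2 := mul_nonneg (by linarith : 0 ≤ C + A2) e2
  have g3 := mul_nonneg (by linarith : 0 ≤ C + A3) e3
  -- `C (q³ + q² + q + 1) ≤ (q - 2)(q³ + q² + q + 1) < (q³ + 1)(q - 1)`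
  have k1 : C * (q ^ 3 + q ^ 2 + q + 1) ≤ (q - 2) * (q ^ 3 + q ^ 2 + q + 1) :=
    mul_le_mul_of_nonneg_right (by linarith) (by linarith)
  have k2 : (q - 2) * (q ^ 3 + q ^ 2 + q + 1) < (q ^ 3 + 1) * (q - 1) := by linarith only [hC, hq, _root_.sq_nonneg (q : ℤ)]
  rw [abs_lt]
  constructor <;> linarith only [hq, h0, g1, g2, g3, k1, f1, f2, f3, _root_.sq_nonneg (q : ℤ)]

/-- `N ∤ G a` for `N = (q² + q + 1)(q + 1)(q - 1)` or `(q² + q + 1)(q + 1)` from tables -/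
theorem quad_check (A : Fin 3 → ℕ → ℤ) (hA : ∀ r < 48, (|A 0 r| ≤ 5 ∧ |A 1 r| ≤ 5 ∧ |A 2 r| ≤ 5) ∧
    (A 0 r ≠ 0 ∨ A 1 r ≠ 0 ∨ A 2 r ≠ 0))
    (hs : ∀ q ∈ [(2 : ℤ), 3, 4, 5], ∀ r < 48, ¬ (q ^ 2 + q + 1) * (q + 1) ∣ A 0 r + A 1 r * q + A 2 r * q ^ 2)
    {q : ℤ} (hq : 2 ≤ q) {r : ℕ} (hr : r < 48) :
    ¬ (q ^ 2 + q + 1) * (q + 1) ∣ A 0 r + A 1 r * q + A 2 r * q ^ 2 := by
  by_cases h : 5 < q
  · exact quad_not_dvd (C := 5) (by norm_num) h (hA r hr).1.1 (hA r hr).1.2.1 (hA r hr).1.2.2 (hA r hr).2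
  · refine hs q ?_ r hr
    simp only [List.mem_cons, List.not_mem_nil, or_false]
    omega

theorem cub_check (A : Fin 4 → ℕ → ℤ) (hA : ∀ r < 48, (|A 0 r| ≤ 5 ∧ |A 1 r| ≤ 5 ∧ |A 2 r| ≤ 5 ∧ |A 3 r| ≤ 5) ∧
    (A 0 r ≠ 0 ∨ A 1 r ≠ 0 ∨ A 2 r ≠ 0 ∨ A 3 r ≠ 0))
    (hs : ∀ r < 48, ¬ ((4 : ℤ) ^ 3 + 1) * (4 - 1) ∣ A 0 r + A 1 r * 4 + A 2 r * 4 ^ 2 + A 3 r * 4 ^ 3)
    {q : ℤ} (hq : q = 4 ∨ 7 ≤ q) {r : ℕ} (hr : r < 48) :
    ¬ (q ^ 3 + 1) * (q - 1) ∣ A 0 r + A 1 r * q + A 2 r * q ^ 2 + A 3 r * q ^ 3 := by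
  rcases hq with rfl | h
  · exact hs r hr
  · exact cub_not_dvd (C := 5) (by norm_num) (by linarith) (hA r hr).1.1 (hA r hr).1.2.1 (hA r hr).1.2.2.1
      (hA r hr).1.2.2.2 (hA r hr).2

/-! ### the node sets -/

theorem mem_WJ_word {l : ℕ} {M : CoxeterMatrix (Fin l)} {W : Type v} [Group W] (cs : CoxeterSystem M W)
    {J : Set (Fin l)} {ω : List (Fin l)} (h : ∀ i ∈ ω, i ∈ J) : cs.wordProd ω ∈ WJ cs J := by
  induction ω with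
  | nil => rw [wordProd_nil]; exact one_mem _
  | cons i ω ih =>
    rw [wordProd_cons]
    exact mul_mem (Subgroup.subset_closure ⟨i, h i List.mem_cons_self, rfl⟩) (ih fun j hj => h j (List.mem_cons_of_mem _ hj))

section

variable {W : Type v} [Group W] [Finite W] (cs : CoxeterSystem CoxeterMatrix.F₄ W)

theorem f4_ell {F : Type u} [Field F] [Fintype F] {q : ℕ} (hq : Fintype.card F = q) (ω : List (Fin 4))
    (J : Set (Fin 4)) (hJ : ∀ i ∈ ω, i ∈ J) (mat : Fin 4 → Fin 4 → ℤ)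
    (hmat : ∀ i j, actW (cartanOf chevF4 4) ω (sr i) j = mat j i) (c : Fin 4 → ℤ) (N : ℕ) (hqN : q.Coprime N)
    (hw : ∀ i, (N : ℤ) ∣ (∑ j, mat j i * c j) - q * c i)
    (hreg : ∀ r < 48, ¬ (N : ℤ) ∣ ∑ j, vec chevF4 4 r j * c j)
    (hell : ∀ u : Fin 4 → ℤ, (∀ i, ∑ j, mat j i * u j = u i) → ∀ j ∈ J, u j = 0) :
    ∃ s : ↥(chevF4.group F), Ell cs isType_F4.isCartan (TT chevF4 F) (XX chevF4 4 F) J s ∧
      ∀ m : ℕ, s ^ m = 1 ↔ ∀ i, (N : ℤ) ∣ m * c i := by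
  have hrep : ∀ i, rep cs isType_F4.isCartan (cs.wordProd ω) (sr i) = fun j => mat j i := by
    intro i
    rw [rep_word]
    funext j
    exact hmat i j
  obtain ⟨s, h1, h2⟩ := exists_ell_fun isType_F4 cs hq (center_eq_bot (S1054.result _ (by simp))) invC_F4 one_ne_zero
    (N := N) (Nat.coprime_one_right N) hqN (J := J) (w := cs.wordProd ω) (mem_WJ_word cs hJ) (fn c)
    (fun i => by rw [hrep, fn_sr, fn_apply]; exact hw i) (fun r hr => by rw [fn_apply]; exact hreg r hr)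
    (fun g hg => hell (fun i => g (sr i)) fun i => by
      have h3 := hg (sr i)
      rw [hrep, hom_eq] at h3
      exact h3)
  refine ⟨s, h1, fun m => ?_⟩
  rw [h2 m]
  exact forall_congr' fun i => by rw [fn_sr]

/-! ### `{0, 1, 3}` -/

/-- `s₀ s₁ s₃` -/
def m013 : Fin 4 → Fin 4 → ℤ := ![![0, -1, 2, 0], ![1, -1, 2, 0], ![0, 0, 1, 0], ![0, 0, 1, -1]]

theorem act_013 : ∀ i j : Fin 4, actW (cartanOf chevF4 4) [0, 1, 3] (sr i) j = m013 j i := by decide +kernel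

/-- the reduced coefficients -/
def A013 : Fin 3 → ℕ → ℤ := ![
  fun r => 2 * vec chevF4 4 r 0 - vec chevF4 4 r 1 + vec chevF4 4 r 2 - 2 * vec chevF4 4 r 3,
  fun r => 3 * vec chevF4 4 r 0 - vec chevF4 4 r 2 - 2 * vec chevF4 4 r 3,
  fun r => vec chevF4 4 r 0 + vec chevF4 4 r 1 - vec chevF4 4 r 2 - 2 * vec chevF4 4 r 3]

theorem tab_013 : ∀ r < 48, (|A013 0 r| ≤ 5 ∧ |A013 1 r| ≤ 5 ∧ |A013 2 r| ≤ 5) ∧
    (A013 0 r ≠ 0 ∨ A013 1 r ≠ 0 ∨ A013 2 r ≠ 0) := by decide +kernel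

theorem sm_013 : ∀ q ∈ [(2 : ℤ), 3, 4, 5], ∀ r < 48,
    ¬ (q ^ 2 + q + 1) * (q + 1) ∣ A013 0 r + A013 1 r * q + A013 2 r * q ^ 2 := by decide +kernel

/-- the functional -/
def c013 (q : ℤ) : Fin 4 → ℤ := ![1 + q - q ^ 2 - q ^ 3, q ^ 2 - 1, 1 - q - q ^ 2, q ^ 3 - 1]

theorem reg_013 {q : ℤ} (hq : 2 ≤ q) {r : ℕ} (hr : r < 48) :
    ¬ (q ^ 2 + q + 1) * (q + 1) ∣ ∑ j, vec chevF4 4 r j * c013 q j := by
  intro h
  apply quad_check A013 tab_013 sm_013 hq hr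
  have e : A013 0 r + A013 1 r * q + A013 2 r * q ^ 2 = ∑ j, vec chevF4 4 r j * c013 q j +
      (q ^ 2 + q + 1) * (q + 1) * (vec chevF4 4 r 0 - vec chevF4 4 r 3) := by
    rw [Fin.sum_univ_four]
    simp only [A013, c013, Matrix.cons_val]
    ring
  rw [e]
  exact dvd_add h (Dvd.intro _ rfl)

/-! ### `{0, 2, 3}` -/

/-- `s₀ s₂ s₃` -/
def m023 : Fin 4 → Fin 4 → ℤ := ![![-1, 1, 0, 0], ![0, 1, 0, 0], ![0, 1, 0, -1], ![0, 0, 1, -1]]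

theorem act_023 : ∀ i j : Fin 4, actW (cartanOf chevF4 4) [0, 2, 3] (sr i) j = m023 j i := by decide +kernel

/-- the reduced coefficients -/
def A023 : Fin 3 → ℕ → ℤ := ![
  fun r => 2 * vec chevF4 4 r 0 - vec chevF4 4 r 2 - vec chevF4 4 r 3,
  fun r => 2 * vec chevF4 4 r 0 - 3 * vec chevF4 4 r 3,
  fun r => 2 * vec chevF4 4 r 0 - vec chevF4 4 r 1 + vec chevF4 4 r 2 - 2 * vec chevF4 4 r 3]

theorem tab_023 : ∀ r < 48, (|A023 0 r| ≤ 5 ∧ |A023 1 r| ≤ 5 ∧ |A023 2 r| ≤ 5) ∧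
    (A023 0 r ≠ 0 ∨ A023 1 r ≠ 0 ∨ A023 2 r ≠ 0) := by decide +kernel

theorem sm_023 : ∀ q ∈ [(2 : ℤ), 3, 4, 5], ∀ r < 48,
    ¬ (q ^ 2 + q + 1) * (q + 1) ∣ A023 0 r + A023 1 r * q + A023 2 r * q ^ 2 := by decide +kernel

/-- the functional -/
def c023 (q : ℤ) : Fin 4 → ℤ := ![1 - q ^ 3, - q ^ 2, q ^ 2 - 1, q ^ 3 - q]

theorem reg_023 {q : ℤ} (hq : 2 ≤ q) {r : ℕ} (hr : r < 48) :
    ¬ (q ^ 2 + q + 1) * (q + 1) ∣ ∑ j, vec chevF4 4 r j * c023 q j := by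
  intro h
  apply quad_check A023 tab_023 sm_023 hq hr
  have e : A023 0 r + A023 1 r * q + A023 2 r * q ^ 2 = ∑ j, vec chevF4 4 r j * c023 q j +
      (q ^ 2 + q + 1) * (q + 1) * (vec chevF4 4 r 0 - vec chevF4 4 r 3) := by
    rw [Fin.sum_univ_four]
    simp only [A023, c023, Matrix.cons_val]
    ring
  rw [e]
  exact dvd_add h (Dvd.intro _ rfl)

/-! ### `{1, 2, 3}` -/

/-- `s₁ s₂ s₃` -/
def m123 : Fin 4 → Fin 4 → ℤ := ![![1, 0, 0, 0], ![1, 1, 0, -2], ![0, 1, 0, -1], ![0, 0, 1, -1]]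

theorem act_123 : ∀ i j : Fin 4, actW (cartanOf chevF4 4) [1, 2, 3] (sr i) j = m123 j i := by decide +kernel

/-- the coefficients -/
def A123 : Fin 4 → ℕ → ℤ := ![
  fun r => vec chevF4 4 r 0 - vec chevF4 4 r 1 + vec chevF4 4 r 2,
  fun r => vec chevF4 4 r 1 - 2 * vec chevF4 4 r 2 + vec chevF4 4 r 3,
  fun r => vec chevF4 4 r 2 - 2 * vec chevF4 4 r 3,
  fun r => vec chevF4 4 r 3]

theorem tab_123 : ∀ r < 48, (|A123 0 r| ≤ 5 ∧ |A123 1 r| ≤ 5 ∧ |A123 2 r| ≤ 5 ∧ |A123 3 r| ≤ 5) ∧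
    (A123 0 r ≠ 0 ∨ A123 1 r ≠ 0 ∨ A123 2 r ≠ 0 ∨ A123 3 r ≠ 0) := by decide +kernel

theorem sm_123 : ∀ r < 48, ¬ ((4 : ℤ) ^ 3 + 1) * (4 - 1) ∣
    A123 0 r + A123 1 r * 4 + A123 2 r * 4 ^ 2 + A123 3 r * 4 ^ 3 := by decide +kernel

/-- the functional -/
def c123 (q : ℤ) : Fin 4 → ℤ := ![1, q - 1, q ^ 2 - 2 * q + 1, q ^ 3 - 2 * q ^ 2 + q]

theorem reg_123 {q : ℤ} (hq : q = 4 ∨ 7 ≤ q) {r : ℕ} (hr : r < 48) :
    ¬ (q ^ 3 + 1) * (q - 1) ∣ ∑ j, vec chevF4 4 r j * c123 q j := by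
  intro h
  apply cub_check A123 tab_123 sm_123 hq hr
  have e : A123 0 r + A123 1 r * q + A123 2 r * q ^ 2 + A123 3 r * q ^ 3 = ∑ j, vec chevF4 4 r j * c123 q j := by
    rw [Fin.sum_univ_four]
    simp only [A123, c123, Matrix.cons_val]
    ring
  rw [e]
  exact h

/-! ### `{0, 1, 2}` -/

/-- `s₀ s₁ s₂` -/
def m012 : Fin 4 → Fin 4 → ℤ := ![![0, 1, -2, 2], ![1, 1, -2, 2], ![0, 1, -1, 1], ![0, 0, 0, 1]]

theorem act_012 : ∀ i j : Fin 4, actW (cartanOf chevF4 4) [0, 1, 2] (sr i) j = m012 j i := by decide +kernel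

/-- the coefficients -/
def A012 : Fin 4 → ℕ → ℤ := ![
  fun r => - vec chevF4 4 r 0 + 2 * vec chevF4 4 r 2,
  fun r => - vec chevF4 4 r 1 + 2 * vec chevF4 4 r 3,
  fun r => vec chevF4 4 r 0 - 2 * vec chevF4 4 r 2 + 2 * vec chevF4 4 r 3,
  fun r => vec chevF4 4 r 1]

theorem tab_012 : ∀ r < 48, (|A012 0 r| ≤ 5 ∧ |A012 1 r| ≤ 5 ∧ |A012 2 r| ≤ 5 ∧ |A012 3 r| ≤ 5) ∧
    (A012 0 r ≠ 0 ∨ A012 1 r ≠ 0 ∨ A012 2 r ≠ 0 ∨ A012 3 r ≠ 0) := by decide +kernel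

theorem sm_012 : ∀ r < 48, ¬ ((4 : ℤ) ^ 3 + 1) * (4 - 1) ∣
    A012 0 r + A012 1 r * 4 + A012 2 r * 4 ^ 2 + A012 3 r * 4 ^ 3 := by decide +kernel

/-- the functional -/
def c012 (q : ℤ) : Fin 4 → ℤ := ![q ^ 2 - 1, q ^ 3 - q, -2 * q ^ 2 + 2, 2 * q ^ 2 + 2 * q]

theorem reg_012 {q : ℤ} (hq : q = 4 ∨ 7 ≤ q) {r : ℕ} (hr : r < 48) :
    ¬ (q ^ 3 + 1) * (q - 1) ∣ ∑ j, vec chevF4 4 r j * c012 q j := by
  intro h
  apply cub_check A012 tab_012 sm_012 hq hr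
  have e : A012 0 r + A012 1 r * q + A012 2 r * q ^ 2 + A012 3 r * q ^ 3 = ∑ j, vec chevF4 4 r j * c012 q j := by
    rw [Fin.sum_univ_four]
    simp only [A012, c012, Matrix.cons_val]
    ring
  rw [e]
  exact h

/-! ### the elements -/

/-- `N` for `{0, 1, 3}` and `{0, 2, 3}` -/
def N3 (q : ℕ) : ℕ := (q ^ 2 + q + 1) * (q + 1) * (q - 1)

theorem N3_cast {q : ℕ} (hq : 2 ≤ q) : ((N3 q : ℕ) : ℤ) = ((q : ℤ) ^ 2 + q + 1) * (q + 1) * (q - 1) := by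
  rw [N3]
  push_cast [Nat.cast_sub (by omega : 1 ≤ q)]
  ring

theorem N3_coprime {q : ℕ} (hq : 2 ≤ q) : q.Coprime (N3 q) := by
  rw [← Nat.isCoprime_iff_coprime, N3_cast hq]
  exact ⟨(q : ℤ) ^ 3 + q ^ 2 - 1, -1, by ring⟩

/-- `N` for `{1, 2, 3}` and `{0, 1, 2}` -/
def N4 (q : ℕ) : ℕ := (q ^ 3 + 1) * (q - 1)

theorem N4_cast {q : ℕ} (hq : 2 ≤ q) : ((N4 q : ℕ) : ℤ) = ((q : ℤ) ^ 3 + 1) * (q - 1) := by
  rw [N4]
  push_cast [Nat.cast_sub (by omega : 1 ≤ q)]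
  ring

theorem N4_coprime {q : ℕ} (hq : 2 ≤ q) : q.Coprime (N4 q) := by
  rw [← Nat.isCoprime_iff_coprime, N4_cast hq]
  exact ⟨(q : ℤ) ^ 3 - q ^ 2 + 1, -1, by ring⟩

theorem ell_013 (u : Fin 4 → ℤ) (h : ∀ i, ∑ j, m013 j i * u j = u i) : ∀ j ∈ ({0, 1, 3} : Set (Fin 4)), u j = 0 := by
  have h0 := h 0
  have h1 := h 1
  have h3 := h 3
  rw [Fin.sum_univ_four] at h0 h1 h3
  simp only [m013, Matrix.cons_val] at h0 h1 h3
  intro j hj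
  simp only [Set.mem_insert_iff, Set.mem_singleton_iff] at hj
  rcases hj with rfl | rfl | rfl <;> (clear * - h0 h1 h3; solve | lia | omega)

theorem ell_023 (u : Fin 4 → ℤ) (h : ∀ i, ∑ j, m023 j i * u j = u i) : ∀ j ∈ ({0, 2, 3} : Set (Fin 4)), u j = 0 := by
  have h0 := h 0
  have h1 := h 1
  have h2 := h 2
  have h3 := h 3
  rw [Fin.sum_univ_four] at h0 h1 h2 h3
  simp only [m023, Matrix.cons_val] at h0 h1 h2 h3
  intro j hj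
  simp only [Set.mem_insert_iff, Set.mem_singleton_iff] at hj
  rcases hj with rfl | rfl | rfl <;> omega

theorem ell_123 (u : Fin 4 → ℤ) (h : ∀ i, ∑ j, m123 j i * u j = u i) : ∀ j ∈ ({1, 2, 3} : Set (Fin 4)), u j = 0 := by
  have h0 := h 0
  have h1 := h 1
  have h2 := h 2
  have h3 := h 3
  rw [Fin.sum_univ_four] at h0 h1 h2 h3
  simp only [m123, Matrix.cons_val] at h0 h1 h2 h3
  intro j hj
  simp only [Set.mem_insert_iff, Set.mem_singleton_iff] at hj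
  rcases hj with rfl | rfl | rfl <;> omega

theorem ell_012 (u : Fin 4 → ℤ) (h : ∀ i, ∑ j, m012 j i * u j = u i) : ∀ j ∈ ({0, 1, 2} : Set (Fin 4)), u j = 0 := by
  have h0 := h 0
  have h1 := h 1
  have h2 := h 2
  have h3 := h 3
  rw [Fin.sum_univ_four] at h0 h1 h2 h3
  simp only [m012, Matrix.cons_val] at h0 h1 h2 h3
  intro j hj
  simp only [Set.mem_insert_iff, Set.mem_singleton_iff] at hj
  rcases hj with rfl | rfl | rfl <;> (clear * - h0 h1 h2; solve | lia | omega)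

theorem hw_013 (q : ℤ) (i : Fin 4) :
    (q ^ 2 + q + 1) * (q + 1) * (q - 1) ∣ (∑ j, m013 j i * c013 q j) - q * c013 q i := by
  rw [Fin.sum_univ_four]
  fin_cases i
  · refine ⟨1, ?_⟩; simp only [m013, c013, Matrix.cons_val, Fin.zero_eta]; ring
  · refine ⟨0, ?_⟩; simp only [m013, c013, Matrix.cons_val, Fin.mk_one]; ring
  · refine ⟨0, ?_⟩; simp only [m013, c013, Matrix.cons_val, Fin.reduceFinMk]; ring
  · refine ⟨-1, ?_⟩; simp only [m013, c013, Matrix.cons_val, Fin.reduceFinMk]; ring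

theorem hw_023 (q : ℤ) (i : Fin 4) :
    (q ^ 2 + q + 1) * (q + 1) * (q - 1) ∣ (∑ j, m023 j i * c023 q j) - q * c023 q i := by
  rw [Fin.sum_univ_four]
  fin_cases i
  · refine ⟨1, ?_⟩; simp only [m023, c023, Matrix.cons_val, Fin.zero_eta]; ring
  · refine ⟨0, ?_⟩; simp only [m023, c023, Matrix.cons_val, Fin.mk_one]; ring
  · refine ⟨0, ?_⟩; simp only [m023, c023, Matrix.cons_val, Fin.reduceFinMk]; ring
  · refine ⟨-1, ?_⟩; simp only [m023, c023, Matrix.cons_val, Fin.reduceFinMk]; ring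

theorem hw_123 (q : ℤ) (i : Fin 4) :
    (q ^ 3 + 1) * (q - 1) ∣ (∑ j, m123 j i * c123 q j) - q * c123 q i := by
  rw [Fin.sum_univ_four]
  fin_cases i
  · refine ⟨0, ?_⟩; simp only [m123, c123, Matrix.cons_val, Fin.zero_eta]; ring
  · refine ⟨0, ?_⟩; simp only [m123, c123, Matrix.cons_val, Fin.mk_one]; ring
  · refine ⟨0, ?_⟩; simp only [m123, c123, Matrix.cons_val, Fin.reduceFinMk]; ring
  · refine ⟨-1, ?_⟩; simp only [m123, c123, Matrix.cons_val, Fin.reduceFinMk]; ring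

theorem hw_012 (q : ℤ) (i : Fin 4) :
    (q ^ 3 + 1) * (q - 1) ∣ (∑ j, m012 j i * c012 q j) - q * c012 q i := by
  rw [Fin.sum_univ_four]
  fin_cases i
  · refine ⟨0, ?_⟩; simp only [m012, c012, Matrix.cons_val, Fin.zero_eta]; ring
  · refine ⟨-1, ?_⟩; simp only [m012, c012, Matrix.cons_val, Fin.mk_one]; ring
  · refine ⟨0, ?_⟩; simp only [m012, c012, Matrix.cons_val, Fin.reduceFinMk]; ring
  · refine ⟨0, ?_⟩; simp only [m012, c012, Matrix.cons_val, Fin.reduceFinMk]; ring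

/-- the elements of the torus of `m` and `c` -/
theorem one_elt {F : Type u} [Field F] [Fintype F] {q : ℕ} (hq : Fintype.card F = q) (h2 : 2 ≤ q) (ω : List (Fin 4))
    (J : Set (Fin 4)) (hJ : ∀ i ∈ ω, i ∈ J) (mat : Fin 4 → Fin 4 → ℤ)
    (hmat : ∀ i j, actW (cartanOf chevF4 4) ω (sr i) j = mat j i) (c : Fin 4 → ℤ)
    (hw : ∀ i, ((q : ℤ) ^ 2 + q + 1) * (q + 1) * (q - 1) ∣ (∑ j, mat j i * c j) - q * c i)
    (hreg : ∀ r < 48, ¬ ((q : ℤ) ^ 2 + q + 1) * (q + 1) ∣ ∑ j, vec chevF4 4 r j * c j)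
    (hell : ∀ u : Fin 4 → ℤ, (∀ i, ∑ j, mat j i * u j = u i) → ∀ j ∈ J, u j = 0) :
    ∃ s : ↥(chevF4.group F), Ell cs isType_F4.isCartan (TT chevF4 F) (XX chevF4 4 F) J s ∧
      ∀ m : ℕ, s ^ m = 1 ↔ ∀ i, ((q : ℤ) ^ 2 + q + 1) * (q + 1) * (q - 1) ∣ m * c i := by
  have hN := N3_cast h2
  obtain ⟨s, h3, h4⟩ := f4_ell cs hq ω J hJ mat hmat c (N3 q) (N3_coprime h2) (fun i => by rw [hN]; exact hw i)
    (fun r hr h => hreg r hr ((Dvd.intro _ rfl).trans (by rwa [hN] at h))) hell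
  exact ⟨s, h3, fun m => by rw [h4 m, hN]⟩

/-- the elements of the torus of `m` and `(q - 1) c` -/
theorem two_elt {F : Type u} [Field F] [Fintype F] {q : ℕ} (hq : Fintype.card F = q) (h2 : 2 ≤ q) (ω : List (Fin 4))
    (J : Set (Fin 4)) (hJ : ∀ i ∈ ω, i ∈ J) (mat : Fin 4 → Fin 4 → ℤ)
    (hmat : ∀ i j, actW (cartanOf chevF4 4) ω (sr i) j = mat j i) (c : Fin 4 → ℤ)
    (hw : ∀ i, ((q : ℤ) ^ 2 + q + 1) * (q + 1) * (q - 1) ∣ (∑ j, mat j i * c j) - q * c i)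
    (hreg : ∀ r < 48, ¬ ((q : ℤ) ^ 2 + q + 1) * (q + 1) ∣ ∑ j, vec chevF4 4 r j * c j)
    (hell : ∀ u : Fin 4 → ℤ, (∀ i, ∑ j, mat j i * u j = u i) → ∀ j ∈ J, u j = 0) :
    ∃ s : ↥(chevF4.group F), Ell cs isType_F4.isCartan (TT chevF4 F) (XX chevF4 4 F) J s ∧
      s ^ ((q ^ 2 + q + 1) * (q + 1)) = 1 := by
  have hN := N3_cast h2
  have hq1 : ((q : ℤ) - 1) ≠ 0 := by omega
  have hsum : ∀ x : Fin 4 → ℤ, ∑ j, x j * (((q : ℤ) - 1) * c j) = ((q : ℤ) - 1) * ∑ j, x j * c j := by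
    intro x
    rw [Finset.mul_sum]
    exact Finset.sum_congr rfl fun j _ => by ring
  obtain ⟨s, h3, h4⟩ := f4_ell cs hq ω J hJ mat hmat (fun i => ((q : ℤ) - 1) * c i) (N3 q) (N3_coprime h2)
    (fun i => by
      rw [hN, hsum fun j => mat j i]
      have e : ((q : ℤ) - 1) * ∑ j, mat j i * c j - q * (((q : ℤ) - 1) * c i) =
        ((q : ℤ) - 1) * ((∑ j, mat j i * c j) - q * c i) := by ring
      rw [e]
      exact (hw i).mul_left _)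
    (fun r hr h => hreg r hr (by
      rw [hN, hsum fun j => vec chevF4 4 r j, mul_comm ((q : ℤ) - 1)] at h
      exact Int.dvd_of_mul_dvd_mul_right hq1 h)) hell
  refine ⟨s, h3, (h4 _).2 fun i => ?_⟩
  rw [hN]
  push_cast
  exact ⟨c i, by ring⟩

/-- **one element of type `{0, 1, 3}`** -/
theorem elt_013 {F : Type u} [Field F] [Fintype F] {q : ℕ} (hq : Fintype.card F = q) (h2 : 2 ≤ q) :
    ∃ s : ↥(chevF4.group F), Ell cs isType_F4.isCartan (TT chevF4 F) (XX chevF4 4 F) {0, 1, 3} s :=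
  let ⟨s, hs, _⟩ := one_elt cs hq h2 [0, 1, 3] {0, 1, 3} (by simp) m013 act_013 (c013 q) (hw_013 q)
    (fun _ hr => reg_013 (by omega) hr) ell_013
  ⟨s, hs⟩

/-- **one element of type `{0, 2, 3}`** -/
theorem elt_023 {F : Type u} [Field F] [Fintype F] {q : ℕ} (hq : Fintype.card F = q) (h2 : 2 ≤ q) :
    ∃ s : ↥(chevF4.group F), Ell cs isType_F4.isCartan (TT chevF4 F) (XX chevF4 4 F) {0, 2, 3} s :=
  let ⟨s, hs, _⟩ := one_elt cs hq h2 [0, 2, 3] {0, 2, 3} (by simp) m023 act_023 (c023 q) (hw_023 q)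
    (fun _ hr => reg_023 (by omega) hr) ell_023
  ⟨s, hs⟩

theorem not_dvd_of_mod {q b c : ℤ} (hq : 3 ≤ q) (h : ((q ^ 2 + q + 1) * (q + 1)) * (q - 1) ∣
    ((q ^ 2 + q + 1) * (q + 1)) * c) (hb : c = b * (q - 1) - 1) : False := by
  have h1 : q - 1 ∣ c := Int.dvd_of_mul_dvd_mul_left (by nlinarith only [hq, sq_nonneg q]) h
  have h2 : q - 1 ∣ b * (q - 1) - c := dvd_sub (Dvd.intro_left _ rfl) h1
  rw [show b * (q - 1) - c = 1 by rw [hb]; ring] at h2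
  have := Int.le_of_dvd one_pos h2
  omega

/-- **two elements of type `{0, 1, 3}`** -/
theorem elts_013 {F : Type u} [Field F] [Fintype F] {q : ℕ} (hq : Fintype.card F = q) (h3 : 3 ≤ q) :
    ∃ s s' : ↥(chevF4.group F), Ell cs isType_F4.isCartan (TT chevF4 F) (XX chevF4 4 F) {0, 1, 3} s ∧
      Ell cs isType_F4.isCartan (TT chevF4 F) (XX chevF4 4 F) {0, 1, 3} s' ∧ ¬ IsConj s s' := by
  obtain ⟨s, hs, hm⟩ := one_elt cs hq (by omega) [0, 1, 3] {0, 1, 3} (by simp) m013 act_013 (c013 q) (hw_013 q)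
    (fun _ hr => reg_013 (by omega) hr) ell_013
  obtain ⟨s', hs', hm'⟩ := two_elt cs hq (by omega) [0, 1, 3] {0, 1, 3} (by simp) m013 act_013 (c013 q) (hw_013 q)
    (fun _ hr => reg_013 (by omega) hr) ell_013
  refine ⟨s, s', hs, hs', fun h => not_isConj hm' (fun h1 => ?_) h.symm⟩
  have h2 := (hm _).1 h1 2
  push_cast at h2
  exact not_dvd_of_mod (b := -((q : ℤ) + 2)) (by omega) h2 (by simp only [c013, Matrix.cons_val]; ring)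

/-- **two elements of type `{0, 2, 3}`** -/
theorem elts_023 {F : Type u} [Field F] [Fintype F] {q : ℕ} (hq : Fintype.card F = q) (h3 : 3 ≤ q) :
    ∃ s s' : ↥(chevF4.group F), Ell cs isType_F4.isCartan (TT chevF4 F) (XX chevF4 4 F) {0, 2, 3} s ∧
      Ell cs isType_F4.isCartan (TT chevF4 F) (XX chevF4 4 F) {0, 2, 3} s' ∧ ¬ IsConj s s' := by
  obtain ⟨s, hs, hm⟩ := one_elt cs hq (by omega) [0, 2, 3] {0, 2, 3} (by simp) m023 act_023 (c023 q) (hw_023 q)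
    (fun _ hr => reg_023 (by omega) hr) ell_023
  obtain ⟨s', hs', hm'⟩ := two_elt cs hq (by omega) [0, 2, 3] {0, 2, 3} (by simp) m023 act_023 (c023 q) (hw_023 q)
    (fun _ hr => reg_023 (by omega) hr) ell_023
  refine ⟨s, s', hs, hs', fun h => not_isConj hm' (fun h1 => ?_) h.symm⟩
  have h2 := (hm _).1 h1 1
  push_cast at h2
  exact not_dvd_of_mod (b := -((q : ℤ) + 1)) (by omega) h2 (by simp only [c023, Matrix.cons_val]; ring)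

/-- **elements of types `{1, 2, 3}`, `{0, 1, 2}`** -/
theorem elts_BC {F : Type u} [Field F] [Fintype F] {q : ℕ} (hq : Fintype.card F = q) (h7 : q = 4 ∨ 7 ≤ q) :
    ∃ s s' : ↥(chevF4.group F), Ell cs isType_F4.isCartan (TT chevF4 F) (XX chevF4 4 F) {1, 2, 3} s ∧
      Ell cs isType_F4.isCartan (TT chevF4 F) (XX chevF4 4 F) {0, 1, 2} s' ∧ ¬ IsConj s s' := by
  have h2 : 2 ≤ q := by omega
  have hN := N4_cast h2
  have h7' : (q : ℤ) = 4 ∨ 7 ≤ (q : ℤ) := by omega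
  obtain ⟨s, hs, hm⟩ := f4_ell cs hq [1, 2, 3] {1, 2, 3} (by simp) m123 act_123 (c123 q) (N4 q) (N4_coprime h2)
    (fun i => by rw [hN]; exact hw_123 q i) (fun r hr => by rw [hN]; exact reg_123 h7' hr) ell_123
  obtain ⟨s', hs', hm'⟩ := f4_ell cs hq [0, 1, 2] {0, 1, 2} (by simp) m012 act_012 (c012 q) (N4 q) (N4_coprime h2)
    (fun i => by rw [hN]; exact hw_012 q i) (fun r hr => by rw [hN]; exact reg_012 h7' hr) ell_012
  refine ⟨s, s', hs, hs', fun h => not_isConj (m := (q ^ 2 - q + 1) * (q - 1)) ?_ (fun h1 => ?_) h.symm⟩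
  · rw [hm', hN]
    have e : (((q ^ 2 - q + 1) * (q - 1) : ℕ) : ℤ) = ((q : ℤ) ^ 2 - q + 1) * (q - 1) := by
      push_cast [Nat.cast_sub (by omega : 1 ≤ q), Nat.cast_sub (by nlinarith only [] : q ≤ q ^ 2)]
      ring
    rw [e]
    intro i
    fin_cases i
    · refine ⟨q - 1, ?_⟩; simp only [c012, Matrix.cons_val, Fin.zero_eta]; ring
    · refine ⟨q * (q - 1), ?_⟩; simp only [c012, Matrix.cons_val, Fin.mk_one]; ring
    · refine ⟨-2 * (q - 1), ?_⟩; simp only [c012, Matrix.cons_val, Fin.reduceFinMk]; ring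
    · refine ⟨2 * q, ?_⟩; simp only [c012, Matrix.cons_val, Fin.reduceFinMk]; ring
  · have e : (((q ^ 2 - q + 1) * (q - 1) : ℕ) : ℤ) = ((q : ℤ) ^ 2 - q + 1) * (q - 1) := by
      push_cast [Nat.cast_sub (by omega : 1 ≤ q), Nat.cast_sub (by nlinarith only [] : q ≤ q ^ 2)]
      ring
    have h3 := (hm _).1 h1 0
    rw [hN, e] at h3
    simp only [c123, Matrix.cons_val] at h3
    have h4 : ((q : ℤ) ^ 3 + 1) * (q - 1) ≤ ((q : ℤ) ^ 2 - q + 1) * (q - 1) * 1 :=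
      Int.le_of_dvd (by
        have : (2 : ℤ) ≤ q := by omega
        have k1 : (0 : ℤ) < q - 1 := by linarith only [h2]
        have k2 : (0 : ℤ) < (q : ℤ) ^ 2 - q + 1 := by nlinarith only []
        rw [mul_one]
        exact mul_pos k2 k1) h3
    have k0 : (2 : ℤ) ≤ q := by omega
    have k1 : (0 : ℤ) < q - 1 := by linarith only [h2]
    have k2 : ((q : ℤ) ^ 2 - q + 1) < (q : ℤ) ^ 3 + 1 := by linarith only [h2, mul_nonneg (sq_nonneg (q : ℤ)) k1.le]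
    have k3 := mul_lt_mul_of_pos_right k2 k1
    rw [mul_one] at h4
    exact absurd h4 (not_le.2 k3)

end

end Cfsg.Agent.H798.OZ
end

-- part: H320/OZ/F4In
section
/-!
# S4842, row `F₄(q)`, `q ≥ 3`: the inner part (helper320, BOX B of helper589)

* `char_A21` : `χ(t) = mm3 k a b c` for `t` elliptic in `L_{a, b, c}`, `{a, b}` of type `A₂`, `c` orthogonal to it,
  `k_K = dim V^{P_K}`;
* `finrank_eq` : `k_i = k_j` if `M i j = 3`;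
* `det_eq` : `k_0 + k_3 = dim V^B` from the determinant formula with `p^(24 a)`;
* `inner` : the hypotheses of helper589's `main` for an irreducible character of `F₄(q)` vanishing on exactly one class.
-/

set_option autoImplicit false
set_option linter.unusedSectionVars false

open Cfsg

namespace Cfsg.Agent.H320.OZ.F4In

open CoxeterSystem Cfsg.Agent.ChevalleyStructure.CoxeterGeom Cfsg.Agent.Tits.Roots Cfsg.Agent.Tits.Core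
  Cfsg.Agent.Tits.Exchange Cfsg.Agent.Nodes.Reps Cfsg.Agent.Nodes.BNOf Cfsg.Agent.Nodes.StabComb
  Cfsg.Agent.Nodes.Bruhat Cfsg.Agent.Nodes.OppDec Cfsg.Agent.Nodes.LeviDec Cfsg.Agent.H985.VZ Module
  Cfsg.Agent.H200.VZ Cfsg.Agent.H898.VZ Cfsg.Agent.H644.OZ Cfsg.Agent.H639.OZ

universe u v

/-! ### The word of the longest element -/

/-- the sixth power of a Coxeter element -/
def om : List (Fin 4) := [0, 1, 2, 3, 0, 1, 2, 3, 0, 1, 2, 3, 0, 1, 2, 3, 0, 1, 2, 3, 0, 1, 2, 3]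

section word

open Cfsg.Agent.H589.FF

variable {W : Type*} [Group W] (cs : CoxeterSystem CoxeterMatrix.F₄ W)

theorem isReduced_om : cs.IsReduced om := WF.isReduced_of cs (by decide +kernel)

theorem act_om : ∀ i, WF.vec (WF.act om (WF.ee i)) = - Pi.single i 1 := by decide +kernel

theorem rep_om (x : Fin 4 → ℤ) : rep cs WF.isCartan (cs.wordProd om) x = -x := by
  have h1 : rep cs WF.isCartan (cs.wordProd om) = (-1 : Module.End ℤ (Fin 4 → ℤ)) := by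
    refine LinearMap.pi_ext' fun i => LinearMap.ext_ring ?_
    change rep cs WF.isCartan (cs.wordProd om) (Pi.single i 1) = -(Pi.single i 1)
    rw [← WF.vec_ee, WF.rep_vec, act_om, WF.vec_ee]
  rw [h1]
  rfl

theorem om_eq [Finite W] : cs.wordProd om = w0 cs := by
  have hC : Cfsg.Agent.Tits.OppRes.Cox cs := inferInstance
  have h1 : cs.wordProd om * w0 cs = 1 := by
    by_contra hne
    obtain ⟨i, -, hi⟩ := hC.exists_descent (J := Set.univ) (by rw [WJ_univ]; exact Subgroup.mem_top _) hne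
    have h2 : cs.length (cs.wordProd om * w0 cs) < cs.length (cs.wordProd om * w0 cs * cs.simple i) := by
      rw [lt_iff' cs WF.isCartan, rep_mul_apply, rep_om]
      have h3 := rep_w0_nonpos (cs := cs) (isRoot_sr cs WF.isCartan i) (sr_nonneg i)
      exact neg_nonneg.2 h3
    omega
  rw [← w0_inv]
  exact eq_inv_of_mul_eq_one_left h1

end word

/-! ### Root group data -/

section gen

variable {I W : Type*} {Y : Type u} [Fintype I] [DecidableEq I] [Group W] [Group Y] {M : CoxeterMatrix I}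
  {cs : CoxeterSystem M W} {A : I → I → ℤ} {h : IsCartan M A} {p : ℕ} {T : Subgroup Y} {n : I → Y}
  {X : (I → ℤ) → Subgroup Y} {V : Type v} [AddCommGroup V] [Module ℂ V] {ρ : Representation ℂ Y V}
  (R : RGD cs h p T n X) [Finite W] [Finite Y]

omit [Finite W] [Finite Y] in
theorem quad_inj {E : Type*} [AddCommGroup E] [Module ℂ E] {S : Module.End ℂ E} {q : ℕ} (hq : 0 < q) (hS : Quad S q)
    {v : E} (hv : S v = 0) : v = 0 := by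
  have h1 := congrArg (fun f : Module.End ℂ E => f v) hS
  simp only [Module.End.mul_apply, LinearMap.add_apply, LinearMap.sub_apply, LinearMap.smul_apply,
    Module.End.one_apply, LinearMap.zero_apply, hv, zero_add, zero_sub] at h1
  have h2 : (q : ℂ) ≠ 0 := Nat.cast_ne_zero.2 hq.ne'
  rw [neg_eq_zero, smul_eq_zero] at h1
  exact h1.resolve_left h2

include R in
theorem finrank_le [FiniteDimensional ℂ V] {i j : I} (hm : M i j = 3) :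
    finrank ℂ (fx ρ (PJ cs h T X {j})) ≤ finrank ℂ (fx ρ (PJ cs h T X {i})) := by
  rw [← finrank_Fq R i, ← finrank_Fq R j, ← qq_eq R hm]
  have hb := braid_three (ρ := ρ) R hm
  have qi := quad (ρ := ρ) R i
  have qj := quad (ρ := ρ) R j
  have hq0 : 0 < qq X i := Nat.card_pos
  have hq0' : 0 < qq X j := Nat.card_pos
  have hmap : ∀ v ∈ Fq (TE cs h T n X ρ j) (qq X i), (TE cs h T n X ρ j * TE cs h T n X ρ i) v ∈
      Fq (TE cs h T n X ρ i) (qq X i) := by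
    intro v hv
    rw [mem_Fq] at hv ⊢
    have h1 : TE cs h T n X ρ i (TE cs h T n X ρ j (TE cs h T n X ρ i v)) =
        TE cs h T n X ρ j (TE cs h T n X ρ i (TE cs h T n X ρ j v)) :=
      congrArg (fun f : Module.End ℂ (VB cs h T X ρ) => f v) hb
    rw [Module.End.mul_apply, h1, hv, map_smul, map_smul]
  refine LinearMap.finrank_le_finrank_of_injective (f := (TE cs h T n X ρ j * TE cs h T n X ρ i).restrict hmap) ?_
  rw [injective_iff_map_eq_zero]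
  intro v hv
  have h1 : TE cs h T n X ρ j (TE cs h T n X ρ i (v : VB cs h T X ρ)) = 0 := congrArg Subtype.val hv
  exact Subtype.ext (quad_inj hq0 qi (quad_inj hq0' qj h1))

include R in
/-- `k_i = k_j` -/
theorem finrank_eq [FiniteDimensional ℂ V] {i j : I} (hm : M i j = 3) :
    finrank ℂ (fx ρ (PJ cs h T X {i})) = finrank ℂ (fx ρ (PJ cs h T X {j})) :=
  le_antisymm (finrank_le R (by rw [M.symmetric]; exact hm)) (finrank_le R hm)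

end gen

section four

open Cfsg.Agent.H589.FF

variable {W : Type*} {Y : Type u} [Group W] [Group Y] {cs : CoxeterSystem CoxeterMatrix.F₄ W} {A : Fin 4 → Fin 4 → ℤ}
  {h : IsCartan CoxeterMatrix.F₄ A} {p : ℕ} {T : Subgroup Y} {n : Fin 4 → Y}
  {X : (Fin 4 → ℤ) → Subgroup Y} {V : Type v} [AddCommGroup V] [Module ℂ V] {ρ : Representation ℂ Y V}
  (R : RGD cs h p T n X) [Finite W] [Finite Y] [FiniteDimensional ℂ V]

include R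

/-- **the value at an elliptic element of type `A₂ × A₁`** -/
theorem char_A21 {a b c : Fin 4} (hab : CoxeterMatrix.F₄ a b = 3) (hac : CoxeterMatrix.F₄ a c = 2)
    (hbc : CoxeterMatrix.F₄ b c = 2) (hG : GG cs h T X = ⊤) (hρ : ρ.IsIrreducible)
    (h0 : fx ρ (RGD.B cs h T X) ≠ ⊥) {t : Y} (ht : Ell cs h T X {a, b, c} t) :
    ρ.character t = ((WF.mm3 (fun K => (finrank ℂ (fx ρ (PJ cs h T X K)) : ℤ)) a b c : ℤ) : ℂ) := by
  have hne : ∀ {i j : Fin 4}, CoxeterMatrix.F₄ i j ≠ 1 → i ≠ j := by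
    rintro i j hij rfl
    exact hij (CoxeterMatrix.F₄.diagonal i)
  have nab : a ≠ b := hne (by rw [hab]; decide)
  have nac : a ≠ c := hne (by rw [hac]; decide)
  have nbc : b ≠ c := hne (by rw [hbc]; decide)
  have hA21 : ∀ i j : Fin 3 × Fin 2, (nd cs ({a, b} ∪ {c})
      (((![∅, {a}, {a, b}] : Fin 3 → Set (Fin 4)) i.1) ∪ (![∅, {c}] : Fin 2 → Set (Fin 4)) i.2)
      (((![∅, {a}, {a, b}] : Fin 3 → Set (Fin 4)) j.1) ∪ (![∅, {c}] : Fin 2 → Set (Fin 4)) j.2) : ℤ) =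
        gA2 i.1 j.1 * gA1 i.2 j.2 := by
    intro i j
    have hs : ∀ (a : Fin 4) (k : Fin 2), (![∅, {a}] : Fin 2 → Set (Fin 4)) k ⊆ {a} := by
      intro a k
      fin_cases k <;> simp
    have hs' : ∀ (a b : Fin 4) (k : Fin 3), (![∅, {a}, {a, b}] : Fin 3 → Set (Fin 4)) k ⊆ {a, b} := by
      intro a b k
      fin_cases k
      · exact Set.empty_subset _
      · exact fun x hx => Or.inl hx
      · exact subset_rfl
    rw [nd_prod cs (J := {a, b}) (J' := {c}) ?_ (hs' _ _ _) (hs' _ _ _) (hs _ _) (hs _ _)]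
    · push_cast
      rw [nd_A2 cs h hab, nd_A1 cs h]
    · rintro x (rfl | rfl) _ rfl
      · exact hac
      · exact hbc
  have hu : ({a, b} ∪ {c} : Set (Fin 4)) = {a, b, c} := by
    rw [Set.insert_union, Set.singleton_union]
  have hu' : ({a} ∪ {c} : Set (Fin 4)) = {a, c} := Set.singleton_union
  have ht' : Ell cs h T X ({a, b} ∪ {c}) t := by rw [hu]; exact ht
  rw [char_of_cert R hG hρ h0 ht' (cert_A2.prod cert_A1)
    (fun x : Fin 3 × Fin 2 => ((![∅, {a}, {a, b}] : Fin 3 → Set (Fin 4)) x.1) ∪ (![∅, {c}] : Fin 2 → Set (Fin 4)) x.2)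
    ?_ ?_ ?_ ?_ hA21]
  · change ∑ i : Fin 3 × Fin 2, _ * ((dP cs h T X ρ _ : ℕ) : ℂ) =
      ((WF.mm3 (fun K => (dP cs h T X ρ K : ℤ)) a b c : ℤ) : ℂ)
    rw [WF.mm3]
    have e2 : (![∅, {a}, {a, b}] : Fin 3 → Set (Fin 4)) 2 = {a, b} := rfl
    have e3 : cA2 2 = 3 := rfl
    simp only [Fintype.sum_prod_type, Fin.sum_univ_three, Fin.sum_univ_two]
    simp only [e2, e3, Matrix.cons_val_zero, Matrix.cons_val_one, Set.empty_union, Set.union_empty, hu, hu']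
    push_cast
    norm_num only [cA1, cA2, _root_.Cfsg.Agent.H898.VZ.cA2, _root_.Matrix.cons_val_zero, _root_.Rat.cast_one, _root_.Cfsg.Agent.H898.VZ.cA1, _root_.Rat.cast_neg, _root_.mul_neg, _root_.neg_mul, _root_.one_mul, _root_.Matrix.cons_val_one, _root_.Matrix.cons_val_fin_one, _root_.Rat.cast_ofNat]
    ring
  · rintro ⟨i, j⟩
    fin_cases i <;> fin_cases j <;> simp [Set.subset_def]
  · rfl
  · simp
  · rintro ⟨i, j⟩ hij hS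
    have hne : b ∈ ({a, b} ∪ {c} : Set (Fin 4)) := by simp
    have hne' : c ∈ ({a, b} ∪ {c} : Set (Fin 4)) := by simp
    fin_cases i <;> fin_cases j
    · rw [← hS] at hne; simp at hne
    · rw [← hS] at hne; simp [nbc] at hne
    · rw [← hS] at hne'; simp [nac.symm] at hne'
    · rw [← hS] at hne; simp [nbc, nab.symm] at hne
    · rw [← hS] at hne'; simp [nac.symm, nbc.symm] at hne'
    · exact hij rfl

/-- **the determinant formula** -/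
theorem det_eq (hp : p.Prime) (hG : GG cs h T X = ⊤) (hρ : ρ.IsIrreducible) (h0 : fx ρ (RGD.B cs h T X) ≠ ⊥)
    {a : ℕ} (ha : 0 < a) (hq : ∀ i, qq X i = p ^ a)
    (hS : ∑ᶠ g ∈ Cfsg.Agent.H730.OZ.pSet p Y, ρ.character g = (p : ℂ) ^ (24 * a) * ρ.character 1) :
    finrank ℂ (fx ρ (PJ cs h T X {0})) + finrank ℂ (fx ρ (PJ cs h T X {3})) = finrank ℂ (fx ρ (RGD.B cs h T X)) := by
  obtain ⟨-, h1⟩ := Cfsg.Agent.H695.OneZero.Det.det_formula_count R hp hG hρ h0 (m := 24 * a) (e := 1) (Or.inl rfl)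
    (by rw [hS]; push_cast; ring) (a := fun _ => a) hq
  have h2 := h1 om (isReduced_om cs) (om_eq cs)
  have e1 : finrank ℂ (fx ρ (PJ cs h T X {1})) = finrank ℂ (fx ρ (PJ cs h T X {0})) :=
    (finrank_eq R (show CoxeterMatrix.F₄ 0 1 = 3 from rfl)).symm
  have e2 : finrank ℂ (fx ρ (PJ cs h T X {2})) = finrank ℂ (fx ρ (PJ cs h T X {3})) :=
    finrank_eq R (show CoxeterMatrix.F₄ 2 3 = 3 from rfl)
  have hc : ∀ i : Fin 4, om.count i = 6 := by decide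
  simp only [Fin.sum_univ_four, hc, e1, e2] at h2
  have h3 : (24 * a) * finrank ℂ (fx ρ (RGD.B cs h T X)) =
      (24 * a) * (finrank ℂ (fx ρ (PJ cs h T X {0})) + finrank ℂ (fx ρ (PJ cs h T X {3}))) := by
    rw [h2]; ring
  exact (Nat.eq_of_mul_eq_mul_left (by positivity) h3).symm

end four

/-! ### `F₄(q)` -/

section F4

open Cfsg.Agent.H589.FF Cfsg.Lie Cfsg.Lie.ChevalleyDatum Cfsg.Agent.ChevalleyStructure
  Cfsg.Agent.ChevalleyStructure.Elts Cfsg.Agent.ChevalleyStructure.CoxeterGeomTypes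
  Cfsg.Agent.ChevalleyStructure.NPerm Cfsg.Agent.Nodes Cfsg.Agent.Nodes.RGDChev Cfsg.Agent.KFacts.RgdChevCoord
  Cfsg.Agent.KFacts.RgdField Cfsg.Agent.GenExc.Chev Cfsg.Agent.H730.OZ

/-- one of two non-conjugate elements is not a zero -/
theorem exists_ne {G : Type u} [Group G] {χ : G → ℂ} (h1 : OneZero χ) {P : G → Prop}
    (h : ∃ s s', P s ∧ P s' ∧ ¬ IsConj s s') : ∃ s, P s ∧ χ s ≠ 0 := by
  obtain ⟨s, s', hs, hs', hn⟩ := h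
  by_contra hcon
  push Not at hcon
  obtain ⟨x, hx, hu⟩ := h1
  exact hn ((hu _ (hcon s hs)).symm.trans (hu _ (hcon s' hs')))

variable {F : Type} [Field F] [Fintype F] {W : Type*} [Group W] (cs : CoxeterSystem CoxeterMatrix.F₄ W)
  {V : Type v} [AddCommGroup V] [Module ℂ V] [FiniteDimensional ℂ V]
  {ρ : Representation ℂ ↥(chevF4.group F) V}

/-- **the inner part of the row `F₄(q)`, `q ≥ 3`** -/
theorem inner {p a : ℕ} (hp : p.Prime) (ha : 0 < a) (hF : Fintype.card F = p ^ a) (hq3 : 3 ≤ p ^ a)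
    (hρ : ρ.IsIrreducible) (h1 : OneZero ρ.character)
    (hS : ∑ᶠ u ∈ pSet p ↥(chevF4.group F), ρ.character u = (p : ℂ) ^ (24 * a) * ρ.character 1) :
    fx ρ (RGD.B cs isType_F4.isCartan (TT chevF4 F) (XX chevF4 4 F)) ≠ ⊥ ∧
    WF.mm3 (fun K => (finrank ℂ (fx ρ (PJ cs isType_F4.isCartan (TT chevF4 F) (XX chevF4 4 F) K)) : ℤ)) 0 1 3 ≠ 0 ∧
    WF.mm3 (fun K => (finrank ℂ (fx ρ (PJ cs isType_F4.isCartan (TT chevF4 F) (XX chevF4 4 F) K)) : ℤ)) 3 2 0 ≠ 0 ∧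
    finrank ℂ (fx ρ (PJ cs isType_F4.isCartan (TT chevF4 F) (XX chevF4 4 F) {0})) +
      finrank ℂ (fx ρ (PJ cs isType_F4.isCartan (TT chevF4 F) (XX chevF4 4 F) {3})) =
      finrank ℂ (fx ρ (RGD.B cs isType_F4.isCartan (TT chevF4 F) (XX chevF4 4 F))) := by
  have : Fact p.Prime := ⟨hp⟩
  have : CharP F p := by
    obtain ⟨r, hr⟩ := CharP.exists F
    obtain ⟨b, hrp, hb⟩ := FiniteField.card F r
    rw [hF] at hb
    have h2 : p = r := by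
      have h3 : p ∣ r ^ (b : ℕ) := by rw [← hb]; exact dvd_pow_self p ha.ne'
      exact (Nat.prime_dvd_prime_iff_eq hp hrp).1 (hp.dvd_of_dvd_pow h3)
    rwa [h2]
  have := finite_W isType_F4 cs
  have : Finite ↥(chevF4.group F) := inferInstance
  have R := rgd (K := F) isType_F4 cs p
  have hG : GG cs isType_F4.isCartan (TT chevF4 F) (XX chevF4 4 F) = ⊤ :=
    Cfsg.Agent.KFacts.RgdRigid.GG_eq_top (T := TT chevF4 F) (G1_eq_top isType_F4 cs)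
  have hq2 : 2 ≤ p ^ a := by omega
  obtain ⟨t, ht, hχ⟩ := exists_ne h1 (Cfsg.Agent.H798.OZ.elts_013 cs hF hq3)
  obtain ⟨t', ht', hχ'⟩ := exists_ne h1 (Cfsg.Agent.H798.OZ.elts_023 cs hF hq3)
  have hVB := Cfsg.Agent.H650.OZ.FF.VB_F4 p cs isType_F4 hρ ht hχ ht' hχ' fun hm => by
    have h7 : p ^ a = 4 ∨ 7 ≤ p ^ a := by
      rw [Nat.card_eq_fintype_card, hF] at hm
      omega
    obtain ⟨s, s', hs, hs', hn⟩ := Cfsg.Agent.H798.OZ.elts_BC cs hF h7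
    by_contra hcon
    push Not at hcon
    obtain ⟨x, hx, hu⟩ := h1
    exact hn ((hu _ (hcon.2 s hs)).symm.trans (hu _ (hcon.1 s' hs')))
  have h0 : fx ρ (RGD.B cs isType_F4.isCartan (TT chevF4 F) (XX chevF4 4 F)) ≠ ⊥ := by
    rw [← hVB.2.1]
    exact hVB.1
  have hqq : ∀ i, qq (XX chevF4 4 F) i = p ^ a := fun i => by
    rw [← hF]
    exact Cfsg.Agent.ClosedExc.Chev.card_XX isType_F4 F cs (isRoot_sr _ _ i)
  refine ⟨h0, fun hm => hχ ?_, fun hm => hχ' ?_, det_eq R hp hG hρ h0 ha hqq hS⟩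
  · rw [char_A21 R (a := 0) (b := 1) (c := 3) rfl rfl rfl hG hρ h0 ht, hm, Int.cast_zero]
  · have e : ({0, 2, 3} : Set (Fin 4)) = {3, 2, 0} := by
      ext i
      simp only [Set.mem_insert_iff, Set.mem_singleton_iff]
      (clear * -; itauto)
    rw [e] at ht'
    rw [char_A21 R (a := 3) (b := 2) (c := 0) rfl rfl rfl hG hρ h0 ht', hm, Int.cast_zero]

end F4


end Cfsg.Agent.H320.OZ.F4In
end

private theorem dce_5f04e6c919d4 : _root_.True := by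
  try have : _root_.True := by simp only [_root_.Cfsg.Agent.H798.OZ.A123.eq_1]
  try have : _root_.True := by simp only [_root_.Cfsg.Agent.H798.OZ.m013.eq_1]
  try have : _root_.True := by simp only [_root_.Cfsg.Agent.H798.OZ.c123.eq_1]
  try have : _root_.True := by simp only [_root_.Cfsg.Agent.H798.OZ.A013.eq_1]
  try have : _root_.True := by simp only [_root_.Cfsg.Agent.H798.OZ.A012.eq_1]
  try have : _root_.True := by simp only [_root_.Cfsg.Agent.H798.OZ.N3.eq_1]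
  try have : _root_.True := by simp only [_root_.Cfsg.Agent.H798.OZ.c012.eq_1]
  try have : _root_.True := by simp only [_root_.Cfsg.Agent.H798.OZ.A023.eq_1]
  try have : _root_.True := by simp only [_root_.Cfsg.Agent.H798.OZ.c023.eq_1]
  try have : _root_.True := by simp only [_root_.Cfsg.Agent.H798.OZ.m123.eq_1]
  try have : _root_.True := by simp only [_root_.Cfsg.Agent.H798.OZ.m023.eq_1]
  try have : _root_.True := by simp only [_root_.Cfsg.Agent.H798.OZ.N4.eq_1]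
  try have : _root_.True := by simp only [_root_.Cfsg.Agent.H798.OZ.c013.eq_1]
  try have : _root_.True := by simp only [_root_.Cfsg.Agent.H985.VZ.Ell.congr_simp]
  try have : _root_.True := by simp only [_root_.Cfsg.Agent.H798.OZ.m012.eq_1]
  exact _root_.True.intro
end
end
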